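import Cfsg.Agent.Fusion.EssentialShape
import Cfsg.Agent.Fusion.EssentialGen
import Cfsg.Agent.S0120

/-!
Automorphisms stabilizing a chain with two steps below the elements of order dividing `p`, and the
extension of an automorphism normalizing them.
-/

set_option autoImplicit false
set_option linter.style.haveILetI false
set_option linter.unusedSectionVars false

namespace Cfsg.Lib.Fusion.RankTwo

open Cfsg Cfsg.FusionSystem

variable {E : Type*} [Group E] [Finite E] {p : ℕ} [hp : Fact p.Prime]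

/-- The automorphisms induced on an invariant subgroup. -/
def resHom (H : Subgroup (MulAut E)) (K : Subgroup E) (hK : ∀ h ∈ H, ∀ x ∈ K, h x ∈ K) :
    H →* MulAut K where
  toFun h :=
    { toFun := fun x => ⟨(h : MulAut E) x, hK h h.2 x x.2⟩
      invFun := fun x => ⟨(h : MulAut E)⁻¹ x, hK _ (H.inv_mem h.2) x x.2⟩
      left_inv := fun x => Subtype.ext ((h : MulAut E).symm_apply_apply x)
      right_inv := fun x => Subtype.ext ((h : MulAut E).apply_symm_apply x)
      map_mul' := fun x y => Subtype.ext (map_mul (h : MulAut E) (x : E) y) }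
  map_one' := MulEquiv.ext fun _ => rfl
  map_mul' _ _ := MulEquiv.ext fun _ => rfl

/-- The automorphisms induced on an invariant quotient. -/
noncomputable def quotHom (H : Subgroup (MulAut E)) (N : Subgroup E) [N.Normal]
    (hN : ∀ h ∈ H, ∀ x ∈ N, h x ∈ N) : H →* MulAut (E ⧸ N) where
  toFun h := QuotientGroup.congr N N (h : MulAut E) (by
    ext x
    refine ⟨?_, fun hx => ⟨(h : MulAut E)⁻¹ x, hN _ (H.inv_mem h.2) x hx, (h : MulAut E).apply_symm_apply x⟩⟩
    rintro ⟨y, hy, rfl⟩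
    exact hN h h.2 y hy)
  map_one' := MulEquiv.ext fun q => Quotient.inductionOn' q fun _ => rfl
  map_mul' _ _ := MulEquiv.ext fun q => Quotient.inductionOn' q fun _ => rfl

/-- The elements of order dividing `p` and two subgroups below them. -/
structure Chain (p : ℕ) (X X1 X2 : Subgroup E) : Prop where
  mem : ∀ x : E, x ∈ X ↔ x ^ p = 1
  le1 : X1 ≤ X
  le2 : X2 ≤ X1

theorem inv_mem_of_aut (α : MulAut E) {M : Subgroup E} (h : ∀ x ∈ M, α x ∈ M) :
    ∀ x ∈ M, α⁻¹ x ∈ M := by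
  intro x hx
  have hmap : M.map (α : E ≃* E).toMonoidHom = M :=
    Subgroup.eq_of_le_of_card_ge (by rintro _ ⟨y, hy, rfl⟩; exact h y hy)
      (le_of_eq (Nat.card_congr (M.equivMapOfInjective (α : E ≃* E).toMonoidHom α.injective).toEquiv))
  obtain ⟨y, hy, rfl⟩ := hmap.ge hx
  show α⁻¹ (α y) ∈ M
  rwa [MulAut.inv_apply_self]

theorem normal_of_index_dvd (hE : IsPGroup p E) (N : Subgroup E) (hi : N.index ∣ p) : N.Normal := by
  rcases (Nat.dvd_prime hp.out).1 hi with h | h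
  · rw [Subgroup.index_eq_one.1 h]; infer_instance
  refine Subgroup.normal_of_index_eq_minFac_card ?_
  obtain ⟨n, hn⟩ := IsPGroup.iff_card.mp hE
  have hn0 : n ≠ 0 := by
    intro h0
    have := Subgroup.index_dvd_card N
    rw [h, hn, h0, pow_zero, Nat.dvd_one] at this
    exact hp.out.ne_one this
  rw [h, hn, Nat.pow_minFac hn0, hp.out.minFac_eq]

/-- A `p`-element of the automorphism group fixes the cosets in an invariant step of order `p`. -/
theorem disp_mem_step (hE : IsPGroup p E) (α : MulAut E) (hpa : ∃ k : ℕ, α ^ p ^ k = 1)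
    {M N : Subgroup E} (hNM : N ≤ M) (hcard : Nat.card M = p * Nat.card N)
    (hM : ∀ x ∈ M, α x ∈ M) (hN : ∀ x ∈ N, α x ∈ N) : ∀ x ∈ M, α x * x⁻¹ ∈ N := by
  intro x hx
  have hmap : M.map (α : E ≃* E).toMonoidHom = M :=
    Subgroup.eq_of_le_of_card_ge (by rintro _ ⟨y, hy, rfl⟩; exact hM y hy)
      (le_of_eq (Nat.card_congr (M.equivMapOfInjective (α : E ≃* E).toMonoidHom α.injective).toEquiv))
  let a : MulAut M := ((α : E ≃* E).subgroupMap M).trans (MulEquiv.subgroupCongr hmap)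
  have ha : ∀ y : M, (a y : E) = α y := fun y => rfl
  have hiter : ∀ (j : ℕ) (y : M), ((a ^ j) y : E) = (α ^ j) y := by
    intro j
    induction j with
    | zero => intro y; rfl
    | succ j ih => intro y; rw [pow_succ, MulAut.mul_apply, ih, ha, pow_succ, MulAut.mul_apply]
  obtain ⟨k, hk⟩ := hpa
  have hidx : (N.subgroupOf M).index ∣ p := by
    have h := (N.subgroupOf M).card_mul_index
    rw [Nat.card_congr (Subgroup.subgroupOfEquivOfLe hNM).toEquiv, hcard, mul_comm p] at h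
    exact (Nat.eq_of_mul_eq_mul_left Nat.card_pos h).dvd
  exact mul_inv_mem_of_index_dvd (N.subgroupOf M) (hN := normal_of_index_dvd (hE.to_subgroup M) _ hidx)
    hidx a (fun y hy => hN y hy) ⟨k, MulEquiv.ext fun y => Subtype.ext (by rw [hiter, hk]; rfl)⟩ ⟨x, hx⟩

/-- An automorphism trivial on the elements of order dividing `p` is a `p`-element. -/
theorem exists_pow_of_fix (hp2 : p ≠ 2) (hE : IsPGroup p E) (α : MulAut E)
    (h : ∀ x : E, x ^ p = 1 → α x = x) : ∃ k : ℕ, α ^ p ^ k = 1 := by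
  haveI : Finite (MulAut E) := Finite.of_injective (fun f : MulAut E => (f : E → E)) DFunLike.coe_injective
  refine ⟨(orderOf α).factorization p, Cfsg.Agent.S0120.result hp2 hE _ ?_ fun x hx => ?_⟩
  · rw [orderOf_pow_of_dvd (pow_ne_zero _ hp.out.ne_zero) (Nat.ordProj_dvd _ _)]
    exact (Nat.coprime_ordCompl hp.out (orderOf_pos α).ne').symm
  · have hmem : ∀ m : ℕ, (α ^ m) x = x := by
      intro m
      induction m with
      | zero => rfl
      | succ m ih => rw [pow_succ, MulAut.mul_apply, h x hx, ih]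
    exact hmem _

/-- A `p`-power of an automorphism fixing the lower step fixes the upper one. -/
theorem pow_fix_step {α : MulAut E} {M N : Subgroup E} (hexp : ∀ x ∈ N, x ^ p = 1)
    (hfix : ∀ x ∈ N, α x = x) (hdisp : ∀ x ∈ M, α x * x⁻¹ ∈ N) : ∀ x ∈ M, (α ^ p) x = x := by
  intro x hx
  have h : ∀ i : ℕ, (α ^ i) x = (α x * x⁻¹) ^ i * x := by
    intro i
    induction i with
    | zero => simp
    | succ i ih =>
      rw [pow_succ', MulAut.mul_apply, ih, map_mul, map_pow, hfix _ (hdisp x hx), pow_succ]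
      group
  rw [h, hexp _ (hdisp x hx), one_mul]

variable {X X1 X2 : Subgroup E}

/-- The automorphisms in `A` acting trivially on the steps of the chain. -/
def chainSub (hc : Chain p X X1 X2) (A : Subgroup (MulAut E)) : Subgroup (MulAut E) where
  carrier := {α | α ∈ A ∧ (∀ x ∈ X, α x * x⁻¹ ∈ X1) ∧ (∀ x ∈ X1, α x * x⁻¹ ∈ X2) ∧ ∀ x ∈ X2, α x = x}
  one_mem' := ⟨A.one_mem, fun x _ => by simp, fun x _ => by simp, fun x _ => rfl⟩
  mul_mem' := by
    rintro a b ⟨ha, a1, a2, a3⟩ ⟨hb, b1, b2, b3⟩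
    refine ⟨A.mul_mem ha hb, fun x hx => ?_, fun x hx => ?_, fun x hx => ?_⟩
    · have hbx : b x ∈ X := (hc.mem _).mpr (by rw [← map_pow, (hc.mem x).mp hx, map_one])
      have := X1.mul_mem (a1 _ hbx) (b1 x hx)
      simpa [MulAut.mul_apply, mul_assoc] using this
    · have hbx : b x ∈ X1 := by simpa using X1.mul_mem (hc.le2 (b2 x hx)) hx
      have := X2.mul_mem (a2 _ hbx) (b2 x hx)
      simpa [MulAut.mul_apply, mul_assoc] using this
    · rw [MulAut.mul_apply, b3 x hx, a3 x hx]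
  inv_mem' := by
    rintro a ⟨ha, a1, a2, a3⟩
    have hX : ∀ x ∈ X, a⁻¹ x ∈ X := fun x hx =>
      (hc.mem _).mpr (by rw [← map_pow, (hc.mem x).mp hx, map_one])
    refine ⟨A.inv_mem ha, fun x hx => ?_, fun x hx => ?_, fun x hx => ?_⟩
    · simpa using X1.inv_mem (a1 _ (hX x hx))
    · have h1 := a1 _ (hX x (hc.le1 hx))
      rw [MulAut.apply_inv_self] at h1
      have hmem : a⁻¹ x ∈ X1 := by simpa using X1.mul_mem (X1.inv_mem h1) hx
      simpa using X2.inv_mem (a2 _ hmem)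
    · conv_lhs => rw [← a3 x hx]
      simp

theorem chainSub_le (hc : Chain p X X1 X2) (A : Subgroup (MulAut E)) : chainSub hc A ≤ A :=
  fun _ h => h.1

theorem isPGroup_chainSub (hp2 : p ≠ 2) (hE : IsPGroup p E) (hc : Chain p X X1 X2)
    (A : Subgroup (MulAut E)) : IsPGroup p (chainSub hc A) := by
  rintro ⟨α, hα⟩
  have hαK := hα
  obtain ⟨-, h1, h2, h3⟩ := hα
  have e1 : ∀ x ∈ X1, (α ^ p) x = x :=
    pow_fix_step (fun x hx => (hc.mem x).mp (hc.le1 (hc.le2 hx))) h3 h2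
  have e2 : ∀ x ∈ X, ((α ^ p) ^ p) x = x :=
    pow_fix_step (fun x hx => (hc.mem x).mp (hc.le1 hx)) e1
      ((chainSub hc A).pow_mem hαK p).2.1
  obtain ⟨k, hk⟩ := exists_pow_of_fix hp2 hE _ fun x hx => e2 x ((hc.mem x).mpr hx)
  refine ⟨2 + k, Subtype.ext ?_⟩
  show α ^ p ^ (2 + k) = 1
  rw [pow_add, pow_mul, pow_two, pow_mul]
  exact hk

theorem mem_chainSub (hE : IsPGroup p E) (hc : Chain p X X1 X2) (hX : Nat.card X = p * Nat.card X1)
    (h1 : Nat.card X1 = p * Nat.card X2) (h2 : Nat.card X2 ∣ p) {A : Subgroup (MulAut E)}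
    {α : MulAut E} (hα : α ∈ A) (hpa : ∃ k : ℕ, α ^ p ^ k = 1) (i1 : ∀ x ∈ X1, α x ∈ X1)
    (i2 : ∀ x ∈ X2, α x ∈ X2) : α ∈ chainSub hc A := by
  have iX : ∀ x ∈ X, α x ∈ X := fun x hx =>
    (hc.mem _).mpr (by rw [← map_pow, (hc.mem x).mp hx, map_one])
  refine ⟨hα, disp_mem_step hE α hpa hc.le1 hX iX i1, disp_mem_step hE α hpa hc.le2 h1 i1 i2, ?_⟩
  rcases (Nat.dvd_prime hp.out).1 h2 with h | h
  · rw [Subgroup.card_eq_one.mp h]
    intro x hx
    rw [Subgroup.mem_bot.mp hx, map_one]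
  · intro x hx
    have := disp_mem_step hE α hpa (bot_le : ⊥ ≤ X2) (by rw [h, Subgroup.card_bot, mul_one]) i2
      (fun y hy => by rw [Subgroup.mem_bot.mp hy, map_one]; exact Subgroup.one_mem _) x hx
    exact mul_inv_eq_one.mp (Subgroup.mem_bot.mp this)

/-- If the chain is invariant, there is a unique Sylow subgroup. -/
theorem subsingleton_of_chain (hp2 : p ≠ 2) (hE : IsPGroup p E) (hc : Chain p X X1 X2)
    (hX : Nat.card X = p * Nat.card X1) (h1 : Nat.card X1 = p * Nat.card X2) (h2 : Nat.card X2 ∣ p)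
    (A : Subgroup (MulAut E)) (i1 : ∀ α ∈ A, ∀ x ∈ X1, α x ∈ X1)
    (i2 : ∀ α ∈ A, ∀ x ∈ X2, α x ∈ X2) : Subsingleton (Sylow p A) := by
  haveI : Finite (MulAut E) := Finite.of_injective (fun f : MulAut E => (f : E → E)) DFunLike.coe_injective
  refine subsingleton_sylow_of_le ((chainSub hc A).subgroupOf A)
    ((isPGroup_chainSub hp2 hE hc A).of_injective
      (Subgroup.subgroupOfEquivOfLe (chainSub_le hc A)).toMonoidHom
      (Subgroup.subgroupOfEquivOfLe (chainSub_le hc A)).injective) fun a ⟨k, hk⟩ => ?_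
  exact mem_chainSub hE hc hX h1 h2 a.2 ⟨k, congrArg Subtype.val hk⟩ (i1 _ a.2) (i2 _ a.2)

/-- Conjugation by an automorphism preserving the chain preserves its stabilizer. -/
theorem conj_chainSub (hc : Chain p X X1 X2) {A : Subgroup (MulAut E)} {β : MulAut E} (hβ : β ∈ A)
    (i1 : ∀ x ∈ X1, β x ∈ X1) (i2 : ∀ x ∈ X2, β x ∈ X2) {α : MulAut E} (hα : α ∈ chainSub hc A) :
    β * α * β⁻¹ ∈ chainSub hc A := by
  obtain ⟨ha, a1, a2, a3⟩ := hα
  have hX : ∀ x ∈ X, β⁻¹ x ∈ X := fun x hx =>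
    (hc.mem _).mpr (by rw [← map_pow, (hc.mem x).mp hx, map_one])
  refine ⟨A.mul_mem (A.mul_mem hβ ha) (A.inv_mem hβ), fun x hx => ?_, fun x hx => ?_, fun x hx => ?_⟩
  · simpa [MulAut.mul_apply] using i1 _ (a1 _ (hX x hx))
  · simpa [MulAut.mul_apply] using i2 _ (a2 _ (inv_mem_of_aut β i1 x hx))
  · rw [MulAut.mul_apply, MulAut.mul_apply, a3 _ (inv_mem_of_aut β i2 x hx), MulAut.apply_inv_self]

section Extension

variable {Ω : Type*} [Group Ω] {S : Subgroup Ω} {F : FusionSystem S}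

omit [Finite E] [Group E] in
/-- An automorphism normalizing a `p`-subgroup around the induced automorphisms extends to the
normalizer. -/
theorem exists_extension_of_normalizing [Finite S] (hS : IsPGroup p S) (hF : F.IsSaturated p)
    {Q : Subgroup Ω} (hQ : F.IsFullyNormalized Q) {K : Subgroup (MulAut Q)} (hK : IsPGroup p K)
    (hKA : K ≤ F.autGroup Q) (hPK : autInducedBy S Q ≤ K) {β : MulAut Q} (hβ : β ∈ F.autGroup Q)
    (hnorm : ∀ α ∈ K, β * α * β⁻¹ ∈ K) :
    ∃ k, IsMap F (normalizerIn S Q) k ∧ ∀ x ∈ Q, k x = autFun β x := by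
  have hQS := hQ.1
  haveI := finite_of_le hQS
  obtain ⟨-, hfa, hrec⟩ := fullyNormalized_props hS hF hQ
  obtain ⟨R, hR⟩ := hfa.2
  have hKP : K ≤ autInducedBy S Q := by
    intro α hα
    have he := R.3 (hK.of_injective (Subgroup.subgroupOfEquivOfLe hKA).toMonoidHom
      (Subgroup.subgroupOfEquivOfLe hKA).injective) (hR ▸ fun a ha => hPK ha)
    have h2 : (⟨α, hKA hα⟩ : F.autGroup Q) ∈ (R : Subgroup (F.autGroup Q)) := he ▸ hα
    rw [hR] at h2
    exact h2
  have hm : IsMap F Q (autFun β) := (isMap_autFun hQS).mpr hβ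
  obtain ⟨k, hk, hag⟩ := receptive_extend hrec hm (img_autFun β)
  refine ⟨k, hk.mono fun g hg => ?_, hag⟩
  obtain ⟨h, hh, eh⟩ := mem_autInducedBy.mp
    (hKP (hnorm _ (hPK (conjAut_mem_autInducedBy hg.2 hg.1))))
  refine mem_extSub.mpr ⟨hg.1, hg.2, h, hh, fun x hx => ?_⟩
  have e := eh (β ⟨x, hx⟩)
  rw [MulAut.mul_apply, MulAut.mul_apply, MulAut.inv_apply_self] at e
  rw [autFun_apply_mem β hx, ← e, autFun_apply_mem β (conj_mem_of_mem_normalizer hg.2 hx)]
  congr 2

end Extension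

end Cfsg.Lib.Fusion.RankTwo
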