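import Cfsg.Agent.Fusion.EssentialShape

/-!
Transvections on two lines of a group of order `p ^ 2` and exponent `p` give every diagonal
automorphism of determinant one.
-/

set_option autoImplicit false
set_option linter.style.haveILetI false
set_option linter.unusedSectionVars false

namespace Cfsg.Lib.Fusion.RankTwo

variable {Q : Type*} [Group Q] [Finite Q] {p : ℕ} [hp : Fact p.Prime]

/-- A nonidentity power of an element of order `p` reaches every power of it. -/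
theorem exists_nat_pow {x : Q} (hx : x ^ p = 1) {j : ℤ} (hj : ¬ (p : ℤ) ∣ j) (c : ℤ) :
    ∃ n : ℕ, (x ^ j) ^ n = x ^ c := by
  obtain ⟨a, b, hab⟩ := ((Nat.prime_iff_prime_int.mp hp.out).coprime_iff_not_dvd.mpr hj).symm
  refine ⟨((a * c) % (p : ℤ)).toNat, ?_⟩
  have hnn : 0 ≤ (a * c) % (p : ℤ) := Int.emod_nonneg _ (by exact_mod_cast hp.out.ne_zero)
  rw [← zpow_natCast, Int.toNat_of_nonneg hnn, ← zpow_mul]
  have e : j * ((a * c) % (p : ℤ)) = c + (p : ℤ) * (-(b * c) - j * ((a * c) / (p : ℤ))) := by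
    rw [Int.emod_def]
    linear_combination c * hab
  rw [e, zpow_add, zpow_mul, zpow_natCast, hx, one_zpow, mul_one]

theorem dvd_of_zpow_eq_one {x : Q} (hx : x ^ p = 1) (hx1 : x ≠ 1) {j : ℤ} (h : x ^ j = 1) :
    (p : ℤ) ∣ j := by
  rw [← orderOf_eq_prime hx hx1]
  exact orderOf_dvd_iff_zpow_eq_one.mpr h

/-- An automorphism moving `y` by a fixed element moves it by powers of it. -/
theorem pow_transvection {α : MulAut Q} {y d : Q} (h : α y = y * d) (hd : α d = d) (n : ℕ) :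
    (α ^ n) y = y * d ^ n ∧ (α ^ n) d = d := by
  induction n with
  | zero => simp
  | succ n ih =>
    rw [pow_succ', MulAut.mul_apply, MulAut.mul_apply, ih.1, ih.2, map_mul, map_pow, h, hd, pow_succ']
    exact ⟨(mul_assoc _ _ _), rfl⟩

theorem pow_fix {α : MulAut Q} {y : Q} (h : α y = y) (n : ℕ) : (α ^ n) y = y := by
  have := (pow_transvection (α := α) (y := y) (d := 1) (by rw [mul_one, h]) (map_one α) n).1
  rwa [one_pow, mul_one] at this

/-- Two elements of different lines generate. -/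
theorem gen_two (hc : ∀ a b : Q, a * b = b * a) (hexp : ∀ x : Q, x ^ p = 1)
    (hcard : Nat.card Q = p ^ 2) {e0 e1 : Q} (he0 : e0 ≠ 1) (he1 : e1 ∉ Subgroup.zpowers e0) (q : Q) :
    ∃ i j : ℤ, q = e0 ^ i * e1 ^ j := by
  let M : Subgroup Q :=
    { carrier := {q | ∃ i j : ℤ, q = e0 ^ i * e1 ^ j}
      one_mem' := ⟨0, 0, by simp⟩
      mul_mem' := by
        rintro _ _ ⟨i, j, rfl⟩ ⟨k, l, rfl⟩
        refine ⟨i + k, j + l, ?_⟩
        rw [zpow_add, zpow_add, mul_assoc, ← mul_assoc (e1 ^ j), hc (e1 ^ j) (e0 ^ k)]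
        group
      inv_mem' := by
        rintro _ ⟨i, j, rfl⟩
        exact ⟨-i, -j, by rw [mul_inv_rev, zpow_neg, zpow_neg, hc]⟩ }
  have hle : Subgroup.zpowers e0 ≤ M := by
    rintro _ ⟨i, rfl⟩
    exact ⟨i, 0, by simp⟩
  have hlt : Subgroup.zpowers e0 < M := lt_of_le_of_ne hle fun e =>
    he1 (e.ge ⟨0, 1, by simp⟩)
  have hc0 : Nat.card (Subgroup.zpowers e0) = p := by
    rw [Nat.card_zpowers, orderOf_eq_prime (hexp e0) he0]
  have hM : M = ⊤ := by
    obtain ⟨k, hk, hMk⟩ := (Nat.dvd_prime_pow hp.out).mp (hcard ▸ Subgroup.card_subgroup_dvd_card M)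
    refine Subgroup.eq_top_of_card_eq _ ?_
    have : p < Nat.card M := by
      rw [← hc0]
      exact lt_of_le_of_ne (Subgroup.card_le_of_le hle) fun e =>
        hlt.ne (Subgroup.eq_of_le_of_card_ge hle e.ge)
    rw [hMk] at this ⊢
    rw [hcard]
    congr 1
    by_contra hne
    have h1 : p ^ k ≤ p ^ 1 := Nat.pow_le_pow_right hp.out.pos (by omega)
    rw [pow_one] at h1
    omega
  exact hM.ge (Subgroup.mem_top q)

/-- Two transvections give the diagonal automorphisms. -/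
theorem exists_diag (hc : ∀ a b : Q, a * b = b * a) (hexp : ∀ x : Q, x ^ p = 1)
    (hcard : Nat.card Q = p ^ 2) {A : Subgroup (MulAut Q)} {a β : MulAut Q} (ha : a ∈ A) (hβ : β ∈ A)
    {e0 : Q} (he0 : e0 ≠ 1) (hfix : a e0 = e0) (ha1 : a ≠ 1)
    (hmove : β e0 ∉ Subgroup.zpowers e0) (hpa : ∃ k : ℕ, a ^ p ^ k = 1) {μ : ℕ} (hμ : ¬ p ∣ μ) :
    ∃ g ∈ A, ∃ e1 : Q, e1 ∉ Subgroup.zpowers e0 ∧ g e0 = e0 ^ μ ∧ (g e1) ^ μ = e1 := by
  letI : CommGroup Q := { ‹Group Q› with mul_comm := hc }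
  set e1 := β e0
  have he1 : e1 ∉ Subgroup.zpowers e0 := hmove
  have hc0 : Nat.card (Subgroup.zpowers e0) = p := by
    rw [Nat.card_zpowers, orderOf_eq_prime (hexp e0) he0]
  have hidx : (Subgroup.zpowers e0).index = p := by
    have h := (Subgroup.zpowers e0).card_mul_index
    rw [hc0, hcard, pow_two] at h
    exact Nat.eq_of_mul_eq_mul_left hp.out.pos h
  have hdisp : ∀ q, a q * q⁻¹ ∈ Subgroup.zpowers e0 :=
    mul_inv_mem_of_index_dvd _ hidx.dvd a (by
      rintro _ ⟨i, rfl⟩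
      exact ⟨i, by rw [map_zpow, hfix]⟩) hpa
  have hext : ∀ q ∉ Subgroup.zpowers e0, a q = q → a = 1 := fun q hq hq1 => by
    refine MulEquiv.ext fun x => ?_
    obtain ⟨i, j, rfl⟩ := gen_two hc hexp hcard he0 hq x
    rw [map_mul, map_zpow, map_zpow, hfix, hq1]
    rfl
  -- the first transvection
  obtain ⟨j, hj⟩ := hdisp e1
  replace hj : a e1 = e1 * e0 ^ j := by
    rw [show e0 ^ j = a e1 * e1⁻¹ from hj, mul_comm e1, inv_mul_cancel_right]
  have hjp : ¬ (p : ℤ) ∣ j := fun ⟨m, hm⟩ => ha1 (hext e1 he1 (by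
    rw [hj, hm, zpow_mul, zpow_natCast, hexp, one_zpow, mul_one]))
  obtain ⟨n, hn⟩ := exists_nat_pow (hexp e0) hjp (-1)
  set t' := a ^ n with ht'
  have ht'1 : t' e1 = e1 * e0⁻¹ := by
    rw [ht', (pow_transvection hj (by rw [map_zpow, hfix]) n).1, hn, zpow_neg_one]
  have ht'0 : t' e0 = e0 := pow_fix hfix n
  -- the second transvection
  set a' := β * a * β⁻¹ with ha'
  have ha'1 : a' e1 = e1 := by
    simp only [ha', MulAut.mul_apply, e1, MulAut.inv_apply_self, hfix]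
  obtain ⟨l, hl⟩ := hdisp (β⁻¹ e0)
  replace hl : a (β⁻¹ e0) = β⁻¹ e0 * e0 ^ l := by
    rw [show e0 ^ l = a (β⁻¹ e0) * (β⁻¹ e0)⁻¹ from hl, mul_comm (β⁻¹ e0), inv_mul_cancel_right]
  have ha'0 : a' e0 = e0 * e1 ^ l := by
    simp only [ha', MulAut.mul_apply, hl, map_mul, map_zpow, MulAut.apply_inv_self, e1]
  have hlp : ¬ (p : ℤ) ∣ l := by
    rintro ⟨m, hm⟩
    rw [hm, zpow_mul, zpow_natCast, hexp, one_zpow, mul_one] at hl
    by_cases hx : β⁻¹ e0 ∈ Subgroup.zpowers e0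
    · obtain ⟨i, hi⟩ := hx
      have h2 : e1 ^ i = e0 := by
        rw [show e1 = β e0 from rfl, ← map_zpow, show e0 ^ i = β⁻¹ e0 from hi, MulAut.apply_inv_self]
      by_cases hip : (p : ℤ) ∣ i
      · obtain ⟨m, rfl⟩ := hip
        rw [zpow_mul, zpow_natCast, hexp, one_zpow] at h2
        exact he0 h2.symm
      · obtain ⟨n', hn'⟩ := exists_nat_pow (hexp e1) hip 1
        rw [h2, zpow_one] at hn'
        exact he1 (hn' ▸ Subgroup.pow_mem _ (Subgroup.mem_zpowers e0) n')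
    · exact ha1 (hext _ hx hl)
  obtain ⟨n', hn'⟩ := exists_nat_pow (hexp e1) hlp 1
  set t := a' ^ n' with ht
  have ht0 : t e0 = e0 * e1 := by
    rw [ht, (pow_transvection ha'0 (by rw [map_zpow, ha'1]) n').1, hn', zpow_one]
  have ht1 : t e1 = e1 := pow_fix ha'1 n'
  have htA : t ∈ A := A.pow_mem (A.mul_mem (A.mul_mem hβ ha) (A.inv_mem hβ)) n'
  have ht'A : t' ∈ A := A.pow_mem ha n
  -- the diagonal element
  set s := (p - 1) * μ with hs
  have hinv : ∀ x : Q, x ^ (p - 1) = x⁻¹ := fun x => eq_inv_of_mul_eq_one_left (by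
    rw [← pow_succ, Nat.sub_add_cancel hp.out.one_le, hexp])
  have hsp : ¬ (p : ℤ) ∣ (s : ℤ) := by
    rw [Int.natCast_dvd_natCast, hs, hp.out.dvd_mul]
    rintro (h | h)
    · have := Nat.le_of_dvd (by have := hp.out.two_le; omega) h
      have := hp.out.two_le
      omega
    · exact hμ h
  obtain ⟨r, hr⟩ := exists_nat_pow (hexp e1) hsp 1
  rw [zpow_natCast, zpow_one] at hr
  have hr0 : (e0 ^ r) ^ s = e0 := by
    have h1 : ((r * s : ℕ) : ℤ) = ((s * r : ℕ) : ℤ) := by rw [Nat.mul_comm]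
    have h2 : (p : ℤ) ∣ ((s * r : ℕ) : ℤ) - 1 := dvd_of_zpow_eq_one (hexp e1)
      (fun h => he1 (h ▸ Subgroup.one_mem _)) (by
        rw [zpow_sub_one, zpow_natCast, pow_mul, hr, mul_inv_cancel])
    obtain ⟨m, hm⟩ := h2
    rw [← pow_mul, ← zpow_natCast, show ((r * s : ℕ) : ℤ) = 1 + (p : ℤ) * m by omega, zpow_add,
      zpow_mul, zpow_natCast, hexp, one_zpow, zpow_one, mul_one]
  set U := t ^ s with hU
  set L := t' ^ r with hL
  have hU0 : U e0 = e0 * e1 ^ s := (pow_transvection ht0 ht1 s).1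
  have hU1 : U e1 = e1 := pow_fix ht1 s
  have hL1 : L e1 = e1 * (e0 ^ r)⁻¹ := by
    rw [hL, (pow_transvection ht'1 (by rw [map_inv, ht'0]) r).1, inv_pow]
  have hL0 : L e0 = e0 := pow_fix ht'0 r
  have hsr : (e1 ^ s) ^ r = e1 := hr
  have hws1 : (U * L * U) e1 = (e0 ^ r)⁻¹ := by
    simp only [MulAut.mul_apply, hU1, hL1, map_mul, map_inv, map_pow, hU0]
    rw [mul_pow, hsr, mul_inv, mul_comm (e0 ^ r)⁻¹, mul_inv_cancel_left]
  have hws0 : (U * L * U) e0 = e1 ^ s := by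
    have hLU : L (U e0) = e1 ^ s := by
      rw [hU0, map_mul, map_pow, hL0, hL1, mul_pow, inv_pow, hr0]
      simp
    rw [MulAut.mul_apply, MulAut.mul_apply, hLU, map_pow, hU1]
  have hw0 : (t * t' * t) e0 = e1 := by
    simp only [MulAut.mul_apply, ht0, map_mul, ht'0, ht'1, map_inv, ht1]
    simp [mul_comm, mul_left_comm]
  have hw1 : (t * t' * t) e1 = e0⁻¹ := by
    simp only [MulAut.mul_apply, ht1, ht'1, map_mul, map_inv, ht0]
    simp [mul_comm, mul_left_comm]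
  refine ⟨(t * t' * t) * (U * L * U), A.mul_mem (A.mul_mem (A.mul_mem htA ht'A) htA)
    (A.mul_mem (A.mul_mem (A.pow_mem htA s) (A.pow_mem ht'A r)) (A.pow_mem htA s)), e1, he1, ?_, ?_⟩
  · rw [MulAut.mul_apply, hws0, map_pow, hw1, hs, pow_mul, hinv, inv_inv]
  · rw [MulAut.mul_apply, hws1, map_inv, map_pow, hw0]
    conv_rhs => rw [← hsr]
    rw [hs, pow_mul e1, hinv, inv_pow, inv_pow, inv_pow, ← pow_mul, ← pow_mul, Nat.mul_comm]

end Cfsg.Lib.Fusion.RankTwo
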