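import Cfsg.Agent.PGroups.BlackburnCoprime
import Cfsg.Agent.Fusion.EssentialShape

/-!
Odd rank-two `p`-groups whose elements of order dividing `p` form a group `W` of order `p ^ 3`: the
centre of `W`, its centralizer, and the middle line `L` moved onto the centre by the whole group.
-/

set_option autoImplicit false
set_option linter.style.haveILetI false
set_option linter.unusedSectionVars false

namespace Cfsg.Lib.Fusion.RankTwo

open Cfsg Cfsg.FusionSystem
open Cfsg.Lib.PGroups.BlackburnCoprime (Base)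
open scoped commutatorElement

universe u

variable {Ω : Type u} [Group Ω] {S : Subgroup Ω} {p : ℕ}

/-- The standing hypotheses on `W`. -/
structure Setup (S W : Subgroup Ω) (p : ℕ) : Prop where
  big : 3 < p
  pgroup : IsPGroup p S
  le : W ≤ S
  mem_iff : ∀ x ∈ S, (x ∈ W ↔ x ^ p = 1)
  card : Nat.card W = p ^ 3
  nonab : ¬ ∀ a ∈ W, ∀ b ∈ W, a * b = b * a

/-- The centre of `W`. -/
def zW (W : Subgroup Ω) : Subgroup Ω := W ⊓ Subgroup.centralizer (W : Set Ω)

/-- The elements of `W` moved into the centre of `W` by all of `S`. -/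
def lineSub (S W : Subgroup Ω) (hn : ∀ z ∈ zW W, ∀ s ∈ S, s * z = z * s) : Subgroup Ω where
  carrier := {x | x ∈ W ∧ ∀ g ∈ S, g * x * g⁻¹ * x⁻¹ ∈ zW W}
  one_mem' := ⟨W.one_mem, fun g _ => by simp [(zW W).one_mem]⟩
  mul_mem' := fun {x y} hx hy => ⟨W.mul_mem hx.1 hy.1, fun g hg => by
    have hz := hy.2 g hg
    have e : g * (x * y) * g⁻¹ * (x * y)⁻¹ =
        (g * x * g⁻¹ * x⁻¹) * (x * (g * y * g⁻¹ * y⁻¹) * x⁻¹) := by group
    rw [e, Subgroup.mem_centralizer_iff.mp hz.2 x hx.1, mul_inv_cancel_right]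
    exact (zW W).mul_mem (hx.2 g hg) hz⟩
  inv_mem' := fun {x} hx => ⟨W.inv_mem hx.1, fun g hg => by
    have hz := (zW W).inv_mem (hx.2 g hg)
    have e : g * x⁻¹ * g⁻¹ * x⁻¹⁻¹ = x⁻¹ * (g * x * g⁻¹ * x⁻¹)⁻¹ * x := by group
    rw [e, Subgroup.mem_centralizer_iff.mp hz.2 x⁻¹ (W.inv_mem hx.1), inv_mul_cancel_right]
    exact hz⟩

theorem dvd_of_zpow_mem [Fact p.Prime] {H : Subgroup Ω} {g : Ω} (hg : g ∉ H) (hp : g ^ p = 1)
    {i : ℤ} (hi : g ^ i ∈ H) : (p : ℤ) ∣ i := by
  by_contra h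
  obtain ⟨a, b, hab⟩ := ((Nat.prime_iff_prime_int.mp Fact.out).coprime_iff_not_dvd.mpr h)
  refine hg ?_
  have : g = (g ^ i) ^ b := by
    rw [← zpow_mul]
    conv_lhs => rw [← zpow_one g, ← hab]
    rw [zpow_add, mul_comm a, zpow_mul, zpow_natCast, hp, one_zpow, one_mul, mul_comm b]
  rw [this]
  exact H.zpow_mem hi b

theorem eq_of_lt_of_card [Fact p.Prime] [Finite S] (hS : IsPGroup p S) {A B : Subgroup Ω} (hB : B ≤ S)
    (h : A < B) : p * Nat.card A ≤ Nat.card B := by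
  haveI := finite_of_le hB
  haveI := finite_of_le (h.le.trans hB)
  obtain ⟨i, hi⟩ := IsPGroup.iff_card.mp (hS.to_le (h.le.trans hB))
  obtain ⟨j, hj⟩ := IsPGroup.iff_card.mp (hS.to_le hB)
  have hlt : Nat.card A < Nat.card B := lt_of_le_of_ne (Subgroup.card_le_of_le h.le) fun e =>
    h.ne (Subgroup.eq_of_le_of_card_ge h.le e.ge)
  rw [hi, hj] at hlt ⊢
  rw [← pow_succ']
  exact Nat.pow_le_pow_right (Fact.out : p.Prime).pos
    ((Nat.pow_lt_pow_iff_right (Fact.out : p.Prime).one_lt).mp hlt)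

/-- An element of `S` outside `W C(W)` exists. -/
def Outside (S W : Subgroup Ω) : Prop := ∃ u ∈ S, ¬ ∀ w ∈ W, u * w * u⁻¹ * w⁻¹ ∈ zW W

namespace Setup

variable {W : Subgroup Ω} (D : Setup S W p)
include D

variable [Finite S] [Fact p.Prime]

theorem hp2 : p ≠ 2 := by have := D.big; omega

theorem pow_eq {x : Ω} (hx : x ∈ W) : x ^ p = 1 := (D.mem_iff x (D.le hx)).mp hx

theorem mem_of_pow {x : Ω} (hx : x ∈ S) (h : x ^ p = 1) : x ∈ W := (D.mem_iff x hx).mpr h

theorem conj_mem {g x : Ω} (hg : g ∈ S) (hx : x ∈ W) : g * x * g⁻¹ ∈ W :=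
  D.mem_of_pow (S.mul_mem (S.mul_mem hg (D.le hx)) (S.inv_mem hg))
    (by rw [conj_pow, D.pow_eq hx]; group)

theorem normalizes {g : Ω} (hg : g ∈ S) : g ∈ Subgroup.normalizer (W : Set Ω) := by
  refine Subgroup.mem_normalizer_iff.mpr fun x => ⟨fun hx => D.conj_mem hg hx, fun hx => ?_⟩
  have := D.conj_mem (S.inv_mem hg) hx
  rwa [show g⁻¹ * (g * x * g⁻¹) * g⁻¹⁻¹ = x by group] at this

theorem base : Base (Q := S) p (W.subgroupOf S) where
  big := D.big
  pgroup := D.pgroup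
  mem_iff x := by
    rw [Subgroup.mem_subgroupOf, D.mem_iff x x.2]
    exact ⟨fun h => Subtype.ext (by rw [Subgroup.coe_pow, h, Subgroup.coe_one]),
      fun h => by rw [← Subgroup.coe_pow, h, Subgroup.coe_one]⟩
  card_W := (Nat.card_congr (Subgroup.subgroupOfEquivOfLe D.le).toEquiv).trans D.card
  nonabelian h := D.nonab fun a ha b hb => congrArg (fun x : W.subgroupOf S => ((x : S) : Ω))
    (h.is_comm.comm ⟨⟨a, D.le ha⟩, ha⟩ ⟨⟨b, D.le hb⟩, hb⟩)

theorem mem_zW {x : S} : (x : Ω) ∈ zW W ↔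
    x ∈ W.subgroupOf S ⊓ Subgroup.centralizer ((W.subgroupOf S : Subgroup S) : Set S) := by
  refine and_congr Iff.rfl ⟨fun h => ?_, fun h => ?_⟩
  · exact Subgroup.mem_centralizer_iff.mpr fun w hw =>
      Subtype.ext (Subgroup.mem_centralizer_iff.mp h _ hw)
  · exact Subgroup.mem_centralizer_iff.mpr fun w hw =>
      congrArg Subtype.val (Subgroup.mem_centralizer_iff.mp h ⟨w, D.le hw⟩ hw)

theorem central : ∀ z ∈ zW W, ∀ s ∈ S, s * z = z * s := by
  intro z hz s hs
  haveI := D.base.characteristic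
  exact congrArg Subtype.val (Subgroup.mem_center_iff.mp
    (D.base.le_center_of_normal (D.mem_zW (x := ⟨z, D.le hz.1⟩) |>.mp hz)) ⟨s, hs⟩)

theorem card_zW : Nat.card (zW W) = p := by
  rw [← D.base.card_Z]
  exact Nat.card_congr
    { toFun := fun z => ⟨⟨z, D.le z.2.1⟩, D.mem_zW.mp z.2⟩
      invFun := fun z => ⟨z.1, D.mem_zW.mpr z.2⟩
      left_inv := fun _ => rfl
      right_inv := fun _ => rfl }

theorem comm_mem {a b : Ω} (ha : a ∈ W) (hb : b ∈ W) : a * b * a⁻¹ * b⁻¹ ∈ zW W :=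
  D.mem_zW.mpr (D.base.comm_mem_Z (a := ⟨a, D.le ha⟩) (b := ⟨b, D.le hb⟩) ha hb)

theorem split {g : Ω} (hg : g ∈ S) (h : ∀ w ∈ W, g * w * g⁻¹ * w⁻¹ ∈ zW W) :
    ∃ w ∈ W, ∃ c ∈ centralizerIn S W, g = w * c := by
  haveI := D.base.characteristic
  have h1 := D.base.mem_sup_of_comm (x := ⟨g, hg⟩) fun w hw => D.mem_zW.mp (h w hw)
  haveI : (W.subgroupOf S).Normal := Subgroup.normal_of_characteristic _
  obtain ⟨w, hw, c, hc, e⟩ := Subgroup.mem_sup_of_normal_left.mp h1
  refine ⟨w, hw, c, mem_centralizerIn.mpr ⟨c.2, fun x hx => ?_⟩, (congrArg Subtype.val e).symm⟩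
  have h2 := congrArg Subtype.val (Subgroup.mem_centralizer_iff.mp hc ⟨x, D.le hx⟩ hx)
  simp only [Subgroup.coe_mul] at h2
  rw [← h2, mul_inv_cancel_right]

theorem cyclic : ∃ g ∈ centralizerIn S W, centralizerIn S W = Subgroup.zpowers g := by
  haveI := D.base.characteristic
  obtain ⟨g, hg⟩ := (Subgroup.isCyclic_iff_exists_zpowers_eq_top
    (Subgroup.centralizer ((W.subgroupOf S : Subgroup S) : Set S))).mp D.base.isCyclic_centralizer
  have hiff : ∀ x : S, (x : Ω) ∈ centralizerIn S W ↔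
      x ∈ Subgroup.centralizer ((W.subgroupOf S : Subgroup S) : Set S) := fun x => by
    rw [mem_centralizerIn, Subgroup.mem_centralizer_iff]
    refine ⟨fun h w hw => Subtype.ext ?_, fun h => ⟨x.2, fun w hw => ?_⟩⟩
    · show (w : Ω) * x = x * w
      conv_lhs => rw [← h.2 w hw]
      group
    · have h2 := congrArg Subtype.val (h ⟨w, D.le hw⟩ hw)
      simp only [Subgroup.coe_mul] at h2
      rw [← h2, mul_inv_cancel_right]
  have hgmem : (g : Ω) ∈ centralizerIn S W := (hiff g).mpr (hg ▸ Subgroup.mem_zpowers g)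
  refine ⟨g, hgmem, le_antisymm (fun x hx => ?_) (Subgroup.zpowers_le.mpr hgmem)⟩
  obtain ⟨i, hi⟩ := hg.ge ((hiff ⟨x, (mem_centralizerIn.mp hx).1⟩).mp hx)
  exact ⟨i, by simpa using congrArg Subtype.val hi⟩

theorem comm_centralizer {c w : Ω} (hc : c ∈ centralizerIn S W) (hw : w ∈ W) : c * w = w * c := by
  conv_rhs => rw [← (mem_centralizerIn.mp hc).2 w hw]
  group

/-- The middle line. -/
def line : Subgroup Ω := lineSub S W D.central

theorem line_le : D.line ≤ W := fun _ hx => hx.1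

theorem zW_le_line : zW W ≤ D.line := fun z hz => ⟨hz.1, fun g hg => by
  rw [D.central z hz g hg, mul_inv_cancel_right, mul_inv_cancel]
  exact (zW W).one_mem⟩

theorem line_conj {g x : Ω} (hg : g ∈ S) (hx : x ∈ D.line) : g * x * g⁻¹ ∈ D.line := by
  have h := D.line.mul_mem (D.zW_le_line (hx.2 g hg)) hx
  rwa [inv_mul_cancel_right] at h

theorem outside_of_not_le {g : Ω} (hg : g ∈ S) (h : g ∉ W ⊔ centralizerIn S W) : Outside S W := by
  refine ⟨g, hg, fun hall => h ?_⟩
  obtain ⟨w, hw, c, hc, rfl⟩ := D.split hg hall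
  exact Subgroup.mul_mem _ (Subgroup.mem_sup_left hw) (Subgroup.mem_sup_right hc)

variable (hout : Outside S W)
include hout

theorem card_line : Nat.card D.line = p ^ 2 := by
  have hp : p.Prime := Fact.out
  haveI := finite_of_le D.le
  haveI := finite_of_le ((D.line_le).trans D.le)
  -- a central element of the quotient by the centre
  haveI hZn : ((zW W).subgroupOf S).Normal := ⟨fun z hz g => by
    have : g * z * g⁻¹ = z := Subtype.ext (by
      show (g : Ω) * z * (g : Ω)⁻¹ = z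
      rw [D.central z hz g g.2, mul_inv_cancel_right])
    rwa [this]⟩
  haveI := D.base.characteristic
  haveI : (W.subgroupOf S).Normal := Subgroup.normal_of_characteristic _
  set π := QuotientGroup.mk' ((zW W).subgroupOf S)
  haveI : ((W.subgroupOf S).map π).Normal :=
    Subgroup.Normal.map inferInstance _ (QuotientGroup.mk'_surjective _)
  have hne : (W.subgroupOf S).map π ≠ ⊥ := fun h => by
    have hle : W ≤ zW W := fun x hx => by
      have h1 : π ⟨x, D.le hx⟩ ∈ (W.subgroupOf S).map π := ⟨_, hx, rfl⟩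
      rw [h, Subgroup.mem_bot, QuotientGroup.mk'_apply, QuotientGroup.eq_one_iff] at h1
      exact h1
    haveI : Finite (zW W) := finite_of_le ((inf_le_left : zW W ≤ W).trans D.le)
    have := Subgroup.card_le_of_le hle
    rw [D.card, D.card_zW] at this
    exact absurd this (not_le.mpr (by
      calc p = p ^ 1 := (pow_one p).symm
        _ < p ^ 3 := Nat.pow_lt_pow_right hp.one_lt (by norm_num)))
  obtain ⟨q, hqW, hqc, hqo⟩ :=
    Cfsg.Lib.PGroups.exists_mem_center_of_normal_ne_bot (D.pgroup.to_quotient _) hne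
  obtain ⟨x, hx, rfl⟩ := hqW
  have hxZ : (x : Ω) ∉ zW W := fun h => by
    rw [show π x = 1 from (QuotientGroup.eq_one_iff x).mpr h, orderOf_one] at hqo
    exact hp.ne_one hqo.symm
  have hxL : (x : Ω) ∈ D.line := ⟨hx, fun g hg => by
    have h1 := Subgroup.mem_center_iff.mp hqc (π ⟨g, hg⟩)
    rw [← commutatorElement_eq_one_iff_mul_comm, ← map_commutatorElement, QuotientGroup.mk'_apply,
      QuotientGroup.eq_one_iff] at h1
    simpa [Subgroup.mem_subgroupOf, commutatorElement_def] using h1⟩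
  have hlt1 : zW W < D.line := lt_of_le_of_ne D.zW_le_line fun e => hxZ (e ▸ hxL)
  have h1 := eq_of_lt_of_card D.pgroup ((D.line_le).trans D.le) hlt1
  have hlt2 : D.line < W := lt_of_le_of_ne D.line_le fun e => by
    obtain ⟨u, hu, h⟩ := hout
    exact h fun w hw => (e.ge hw).2 u hu
  have h2 := eq_of_lt_of_card D.pgroup D.le hlt2
  rw [D.card_zW] at h1
  rw [D.card] at h2
  have h3 : Nat.card D.line ≤ p ^ 2 :=
    Nat.le_of_mul_le_mul_left (h2.trans_eq (pow_succ' p 2)) hp.pos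
  rw [pow_two] at h3 ⊢
  exact le_antisymm h3 h1

theorem line_index : (D.line.subgroupOf W).index = p := by
  haveI := finite_of_le D.le
  have h := (D.line.subgroupOf W).card_mul_index
  rw [Nat.card_congr (Subgroup.subgroupOfEquivOfLe D.line_le).toEquiv, D.card_line hout, D.card,
    pow_succ p 2] at h
  exact Nat.eq_of_mul_eq_mul_left (pow_pos (Fact.out : p.Prime).pos 2) h

theorem disp_mem {g x : Ω} (hg : g ∈ S) (hx : x ∈ W) : g * x * g⁻¹ * x⁻¹ ∈ D.line := by
  haveI := finite_of_le D.le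
  haveI : (D.line.subgroupOf W).Normal := ⟨fun y hy w => by
    exact D.line_conj (D.le w.2) hy⟩
  obtain ⟨i, hi⟩ := D.pgroup ⟨g, hg⟩
  refine mul_inv_mem_of_index_dvd (p := p) (D.line.subgroupOf W) (D.line_index hout).dvd
    (conjAut W g (D.normalizes hg)) (fun y hy => D.line_conj hg hy) ⟨i, ?_⟩ ⟨x, hx⟩
  suffices h : ∀ y ∈ W, autFun (conjAut W g (D.normalizes hg) ^ p ^ i) y = y from
    MulEquiv.ext fun y => Subtype.ext ((autFun_apply _ y).symm.trans (h y y.2))
  intro y hy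
  have hpow : ∀ m : ℕ, autFun (conjAut W g (D.normalizes hg) ^ m) y = g ^ m * y * (g ^ m)⁻¹ := by
    intro m
    induction m generalizing y with
    | zero => rw [pow_zero, autFun_apply_mem _ hy]; simp
    | succ m ih =>
      rw [pow_succ, autFun_mul _ _ hy, ih _ (autFun_mem _ hy), autFun_apply_mem _ hy, conjAut_apply,
        pow_succ]
      group
  have hgi : g ^ p ^ i = 1 := congrArg Subtype.val hi
  rw [hpow, hgi]
  group

theorem mem_line_of_disp {g x : Ω} (hg : g ∈ S) (hgo : ¬ ∀ w ∈ W, g * w * g⁻¹ * w⁻¹ ∈ zW W)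
    (hx : x ∈ W) (h : g * x * g⁻¹ * x⁻¹ ∈ zW W) : x ∈ D.line := by
  by_contra hxL
  let T : Subgroup Ω :=
    { carrier := {y | y ∈ W ∧ g * y * g⁻¹ * y⁻¹ ∈ zW W}
      one_mem' := ⟨W.one_mem, by simp [(zW W).one_mem]⟩
      mul_mem' := fun {a b} ha hb => ⟨W.mul_mem ha.1 hb.1, by
        have e : g * (a * b) * g⁻¹ * (a * b)⁻¹ =
            (g * a * g⁻¹ * a⁻¹) * (a * (g * b * g⁻¹ * b⁻¹) * a⁻¹) := by group
        rw [e, Subgroup.mem_centralizer_iff.mp hb.2.2 a ha.1, mul_inv_cancel_right]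
        exact (zW W).mul_mem ha.2 hb.2⟩
      inv_mem' := fun {a} ha => ⟨W.inv_mem ha.1, by
        have hz := (zW W).inv_mem ha.2
        have e : g * a⁻¹ * g⁻¹ * a⁻¹⁻¹ = a⁻¹ * (g * a * g⁻¹ * a⁻¹)⁻¹ * a := by group
        rw [e, Subgroup.mem_centralizer_iff.mp hz.2 a⁻¹ (W.inv_mem ha.1), inv_mul_cancel_right]
        exact hz⟩ }
  have hTW : T ≤ W := fun y hy => hy.1
  have hlt : D.line < T := lt_of_le_of_ne (fun y hy => ⟨hy.1, hy.2 g hg⟩) fun e =>
    hxL (e.ge ⟨hx, h⟩)
  have h1 := eq_of_lt_of_card D.pgroup (hTW.trans D.le) hlt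
  haveI := finite_of_le D.le
  have hT : T = W := Subgroup.eq_of_le_of_card_ge hTW (by
    rw [D.card, pow_succ']; rwa [D.card_line hout] at h1)
  exact hgo fun w hw => (hT.ge hw).2

theorem line_gen {e0 l : Ω} (he : e0 ∈ D.line) (he' : e0 ∉ zW W) (hl : l ∈ D.line) :
    ∃ i : ℤ, (e0 ^ i)⁻¹ * l ∈ zW W := by
  haveI := finite_of_le ((D.line_le).trans D.le)
  have hZS : zW W ≤ S := (inf_le_left : zW W ≤ W).trans D.le
  have hle : Subgroup.zpowers e0 ⊔ zW W ≤ D.line := sup_le (Subgroup.zpowers_le.mpr he) D.zW_le_line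
  have hlt : zW W < Subgroup.zpowers e0 ⊔ zW W := lt_of_le_of_ne le_sup_right fun e =>
    he' (e.ge (Subgroup.mem_sup_left (Subgroup.mem_zpowers e0)))
  have h1 := eq_of_lt_of_card D.pgroup (hle.trans ((D.line_le).trans D.le)) hlt
  rw [D.card_zW] at h1
  have heq := Subgroup.eq_of_le_of_card_ge hle (by rw [D.card_line hout, pow_two]; exact h1)
  rw [← heq, ← SetLike.mem_coe, Subgroup.coe_mul_of_left_le_normalizer_right _ _
    (Subgroup.zpowers_le.mpr (Subgroup.mem_normalizer_iff.mpr fun y => by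
      have he0S := D.le (D.line_le he)
      constructor
      · intro hy
        rw [D.central y hy e0 he0S, mul_inv_cancel_right]
        exact hy
      · intro hy
        have h2 := D.central _ hy e0⁻¹ (S.inv_mem he0S)
        have : y = e0 * y * e0⁻¹ := by
          calc y = e0⁻¹ * (e0 * y * e0⁻¹) * e0 := by group
            _ = _ := by rw [h2]; group
        rw [this]
        exact hy))] at hl
  obtain ⟨_, ⟨i, rfl⟩, z, hz, rfl⟩ := hl
  exact ⟨i, by simpa using hz⟩

theorem top_gen {e1 x : Ω} (he : e1 ∈ W) (he' : e1 ∉ D.line) (hx : x ∈ W) :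
    ∃ i : ℤ, (e1 ^ i)⁻¹ * x ∈ D.line := by
  haveI := finite_of_le D.le
  have hle : Subgroup.zpowers e1 ⊔ D.line ≤ W := sup_le (Subgroup.zpowers_le.mpr he) D.line_le
  have hlt : D.line < Subgroup.zpowers e1 ⊔ D.line := lt_of_le_of_ne le_sup_right fun e =>
    he' (e.ge (Subgroup.mem_sup_left (Subgroup.mem_zpowers e1)))
  have h1 := eq_of_lt_of_card D.pgroup (hle.trans D.le) hlt
  rw [D.card_line hout] at h1
  have heq := Subgroup.eq_of_le_of_card_ge hle (by rw [D.card, pow_succ']; exact h1)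
  rw [← heq, ← SetLike.mem_coe, Subgroup.coe_mul_of_left_le_normalizer_right _ _
    (Subgroup.zpowers_le.mpr (Subgroup.mem_normalizer_iff.mpr fun y => by
      have he1S := D.le he
      constructor
      · exact fun hy => D.line_conj he1S hy
      · intro hy
        have h2 := D.line_conj (S.inv_mem he1S) hy
        rwa [show e1⁻¹ * (e1 * y * e1⁻¹) * e1⁻¹⁻¹ = y by group] at h2))] at hx
  obtain ⟨_, ⟨i, rfl⟩, z, hz, rfl⟩ := hx
  exact ⟨i, by simpa using hz⟩

end Setup

end Cfsg.Lib.Fusion.RankTwo
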