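import Cfsg.Agent.Fusion.RankTwo.Final
import Cfsg.Agent.Fusion.EssentialSylow
import Cfsg.Agent.Frobenius.UniqueSubgroup
import Cfsg.Agent.S5187
import Mathlib.GroupTheory.FixedPointFree

/-!
No proper subgroup is essential over a rank-two `p`-group, `p` at least five, whose elements of order
dividing `p` form a group of order `p ^ 3` smaller than the whole group.
-/

set_option autoImplicit false
set_option linter.style.haveILetI false
set_option linter.unusedSectionVars false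

namespace Cfsg.Lib.Fusion.RankTwo

open Cfsg Cfsg.FusionSystem

universe u

variable {Ω : Type u} [Group Ω] {S : Subgroup Ω} {p : ℕ} {W : Subgroup Ω} [Finite S] [Fact p.Prime]

namespace Setup

variable (D : Setup S W p) {F : FusionSystem S} (hF : F.IsSaturated p)
include D hF

theorem false_of_move (hout : Outside S W) {α : MulAut W} (hα : α ∈ F.autGroup W) {x : Ω}
    (hx : x ∈ D.line) (hαx : autFun α x ∉ D.line) : False := by
  have hp : p.Prime := Fact.out
  haveI := finite_of_le D.le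
  set Zw := Subgroup.center W
  set q := QuotientGroup.mk' Zw
  have hinv : ∀ h ∈ F.autGroup W, ∀ y ∈ Zw, h y ∈ Zw := fun h _ y hy =>
    D.zW_iff.mp (D.zW_aut h (D.zW_iff.mpr hy))
  set H := quotHom (F.autGroup W) Zw hinv
  have hq0 : ∀ y : W, q y = 1 ↔ (y : Ω) ∈ zW W := fun y => by
    rw [D.zW_iff]
    exact QuotientGroup.eq_one_iff y
  have hc : ∀ a b : W ⧸ Zw, a * b = b * a := fun a b => by
    obtain ⟨a, rfl⟩ := QuotientGroup.mk'_surjective Zw a
    obtain ⟨b, rfl⟩ := QuotientGroup.mk'_surjective Zw b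
    have h := (hq0 (a * b * a⁻¹ * b⁻¹)).mpr (by simpa using D.comm_mem a.2 b.2)
    rwa [map_mul, map_mul, map_mul, map_inv, map_inv, mul_inv_eq_one, mul_inv_eq_iff_eq_mul] at h
  have hexp : ∀ a : W ⧸ Zw, a ^ p = 1 := fun a => by
    obtain ⟨a, rfl⟩ := QuotientGroup.mk'_surjective Zw a
    rw [← map_pow, show a ^ p = 1 from Subtype.ext (D.pow_eq a.2), map_one]
  have hcard : Nat.card (W ⧸ Zw) = p ^ 2 := by
    have h := Subgroup.card_eq_card_quotient_mul_card_subgroup Zw
    have hz : Nat.card Zw = p := by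
      rw [← D.card_zW]
      exact Nat.card_congr
        { toFun := fun y => ⟨y.1, D.zW_iff.mpr y.2⟩
          invFun := fun y => ⟨⟨y.1, y.2.1⟩, D.zW_iff.mp y.2⟩
          left_inv := fun _ => rfl
          right_inv := fun _ => rfl }
    rw [D.card, hz, pow_succ p 2] at h
    exact Nat.eq_of_mul_eq_mul_right hp.pos h.symm
  -- a generator of the middle line
  obtain ⟨e0, he0L, he0Z⟩ : ∃ e0 ∈ D.line, e0 ∉ zW W := by
    by_contra h
    push Not at h
    refine hαx ?_
    rw [autFun_apply_mem α (D.line_le hx)]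
    exact D.zW_le_line (D.zW_aut α (h x hx))
  have hzp : ∀ y : W, q y ∈ Subgroup.zpowers (q ⟨e0, D.line_le he0L⟩) ↔ (y : Ω) ∈ D.line := by
    intro y
    constructor
    · rintro ⟨i, hi⟩
      change q ⟨e0, D.line_le he0L⟩ ^ i = q y at hi
      rw [← map_zpow, eq_comm, ← mul_inv_eq_one, ← map_inv, ← map_mul, hq0] at hi
      have := D.line.mul_mem (D.zW_le_line hi) (D.line.zpow_mem he0L i)
      simpa using this
    · intro hy
      obtain ⟨i, hi⟩ := D.line_gen hout he0L he0Z hy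
      have := (hq0 ((⟨e0, D.line_le he0L⟩ ^ i)⁻¹ * y)).mpr (by simpa using hi)
      rw [map_mul, map_inv, map_zpow, inv_mul_eq_one] at this
      exact ⟨i, this⟩
  obtain ⟨u, hu, huout⟩ := id hout
  let au : F.autGroup W := ⟨conjAut W u (D.normalizes hu),
    autInducedBy_le D.le (conjAut_mem_autInducedBy (D.normalizes hu) hu)⟩
  have hfix : H au (q ⟨e0, D.line_le he0L⟩) = q ⟨e0, D.line_le he0L⟩ := by
    show q (conjAut W u (D.normalizes hu) ⟨e0, D.line_le he0L⟩) = _
    rw [← mul_inv_eq_one, ← map_inv, ← map_mul, hq0]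
    simpa [conjAut_apply] using he0L.2 u hu
  have hne : H au ≠ 1 := fun h => huout fun w hw => by
    have h1 : H au (q ⟨w, hw⟩) = q ⟨w, hw⟩ := by rw [h]; rfl
    change q (conjAut W u (D.normalizes hu) ⟨w, hw⟩) = _ at h1
    rw [← mul_inv_eq_one, ← map_inv, ← map_mul, hq0] at h1
    simpa [conjAut_apply] using h1
  have hpa : ∃ k : ℕ, H au ^ p ^ k = 1 := by
    obtain ⟨k, hk⟩ := isPGroup_autInducedBy D.pgroup W
      ⟨_, conjAut_mem_autInducedBy (D.normalizes hu) hu⟩
    refine ⟨k, ?_⟩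
    rw [← map_pow, show au ^ p ^ k = 1 from Subtype.ext (congrArg Subtype.val hk :), map_one]
  have hmove : H ⟨α, hα⟩ (q ⟨e0, D.line_le he0L⟩) ∉ Subgroup.zpowers (q ⟨e0, D.line_le he0L⟩) := by
    show q (α ⟨e0, D.line_le he0L⟩) ∉ _
    rw [hzp]
    intro h
    obtain ⟨i, hi⟩ := D.line_gen hout he0L he0Z hx
    refine hαx ?_
    rw [autFun_apply_mem α (D.line_le hx)]
    have e : (⟨x, D.line_le hx⟩ : W) = ⟨e0, D.line_le he0L⟩ ^ i * ⟨(e0 ^ i)⁻¹ * x, hi.1⟩ :=
      Subtype.ext (by simp)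
    rw [e, map_mul, map_zpow, Subgroup.coe_mul, Subgroup.coe_zpow]
    exact D.line.mul_mem (D.line.zpow_mem h i) (D.zW_le_line (D.zW_aut α hi))
  obtain ⟨g, ⟨⟨γ, hγ⟩, rfl⟩, e1', he1', hg0, hg1⟩ := exists_diag hc hexp hcard (A := H.range)
    (a := H au) (β := H ⟨α, hα⟩) ⟨au, rfl⟩ ⟨⟨α, hα⟩, rfl⟩
    (e0 := q ⟨e0, D.line_le he0L⟩) (fun h => he0Z ((hq0 _).mp h)) hfix hne hmove hpa (μ := 2)
    (fun h => by have := Nat.le_of_dvd two_pos h; have := D.big; omega)
  obtain ⟨e1, rfl⟩ := QuotientGroup.mk'_surjective Zw e1'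
  have he1L : (e1 : Ω) ∉ D.line := fun h => he1' ((hzp e1).mpr h)
  refine D.sq_one hout hF hγ (fun y hy => ?_) e1.2 he1L ?_
  · rw [autFun_apply_mem γ (D.line_le hy), ← hzp]
    obtain ⟨i, hi⟩ := (hzp ⟨y, D.line_le hy⟩).mpr hy
    show H ⟨γ, hγ⟩ (q ⟨y, D.line_le hy⟩) ∈ _
    rw [show q ⟨y, D.line_le hy⟩ = q ⟨e0, D.line_le he0L⟩ ^ i from hi.symm, map_zpow, hg0]
    exact Subgroup.zpow_mem _ (Subgroup.pow_mem _ (Subgroup.mem_zpowers _) 2) i
  · rw [autFun_apply γ e1]
    refine D.zW_le_line ((hq0 (γ e1 ^ 2 * e1⁻¹)).mp ?_)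
    rw [map_mul, map_inv, map_pow, show q (γ e1) = H ⟨γ, hγ⟩ (q e1) from rfl, hg1, mul_inv_cancel]

theorem false_of_elementary (hWS : W < S) {E : Subgroup Ω} (hE : F.IsEssential p E) (hEW : E ≤ W)
    (hEc : Nat.card E = p ^ 2) (hab : ∀ a ∈ E, ∀ b ∈ E, a * b = b * a) : False := by
  have hp : p.Prime := Fact.out
  have hES := hE.1.1
  haveI := finite_of_le D.le
  haveI := finite_of_le hES
  have hcen : centralizerIn S E ≤ E := hE.1.2 E (isConj_refl hES)
  have hEp : IsPGroup p E := D.pgroup.to_le hES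
  have hZE : zW W ≤ E := fun z hz => hcen (mem_centralizerIn.mpr ⟨D.le hz.1, fun e he => by
    rw [← Subgroup.mem_centralizer_iff.mp hz.2 e (hEW he), mul_inv_cancel_right]⟩)
  have hCW : centralizerIn S W ≤ W := fun c hc => hEW (hcen (mem_centralizerIn.mpr
    ⟨(mem_centralizerIn.mp hc).1, fun e he => (mem_centralizerIn.mp hc).2 e (hEW he)⟩))
  obtain ⟨s, hsS, hsW⟩ := SetLike.exists_of_lt hWS
  have hout : Outside S W := D.outside_of_not_le hsS fun h => hsW (sup_le le_rfl hCW h)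
  have hWE : ∀ w ∈ W, w ∈ Subgroup.normalizer (E : Set Ω) := fun w hw =>
    mem_normalizer_of_maps_finite fun x hx => by
      have := E.mul_mem (hZE (D.comm_mem hw (hEW hx))) hx
      rwa [inv_mul_cancel_right] at this
  set A := F.autGroup E
  set Ze := (zW W).subgroupOf E
  have hZec : Nat.card Ze = p := (Nat.card_congr (Subgroup.subgroupOfEquivOfLe hZE).toEquiv).trans D.card_zW
  have hchain : Chain p (⊤ : Subgroup E) Ze ⊥ :=
    ⟨fun x => ⟨fun _ => Subtype.ext (D.pow_eq (hEW x.2)), fun _ => Subgroup.mem_top x⟩, le_top, bot_le⟩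
  have c1 : Nat.card (⊤ : Subgroup E) = p * Nat.card Ze := by rw [Subgroup.card_top, hEc, hZec, pow_two]
  have c2 : Nat.card Ze = p * Nat.card (⊥ : Subgroup E) := by rw [hZec, Subgroup.card_bot, mul_one]
  have c3 : Nat.card (⊥ : Subgroup E) ∣ p := by rw [Subgroup.card_bot]; exact one_dvd p
  obtain ⟨β, hβ, z, hz, hβz⟩ : ∃ β ∈ A, ∃ z ∈ Ze, β z ∉ Ze := by
    by_contra h
    push Not at h
    obtain ⟨R₁, R₂, hR⟩ := exists_two_sylow_of_essential D.pgroup hE
    haveI := subsingleton_of_chain D.hp2 hEp hchain c1 c2 c3 A h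
      (fun α _ x hx => by rw [Subgroup.mem_bot.mp hx, map_one]; exact Subgroup.one_mem _)
    exact hR (Subsingleton.elim _ _)
  have hz1 : z ≠ 1 := fun h => hβz (by rw [h, map_one]; exact Subgroup.one_mem _)
  have hZeq : Subgroup.zpowers z = Ze := Subgroup.eq_of_le_of_card_ge (Subgroup.zpowers_le.mpr hz)
    (by rw [Nat.card_zpowers, hZec, orderOf_eq_prime (Subtype.ext (D.pow_eq (hEW z.2))) hz1])
  obtain ⟨w, hw, hwE⟩ : ∃ w ∈ W, w ∉ E := SetLike.not_le_iff_exists.mp fun h => by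
    have := Subgroup.card_le_of_le h
    rw [D.card, hEc] at this
    exact absurd this (not_le.mpr (Nat.pow_lt_pow_right hp.one_lt (by norm_num)))
  have haA : conjAut E w (hWE w hw) ∈ A :=
    autInducedBy_le hES (conjAut_mem_autInducedBy (hWE w hw) (D.le hw))
  obtain ⟨g, hg, e1, he1, hg0, hg1⟩ := exists_diag (fun a b => Subtype.ext (hab a a.2 b b.2))
    (fun a => Subtype.ext (D.pow_eq (hEW a.2))) hEc haA hβ hz1
    (Subtype.ext (by
      rw [conjAut_apply, Subgroup.mem_centralizer_iff.mp (show (z : Ω) ∈ zW W from hz).2 w hw, mul_inv_cancel_right]))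
    (fun h => hwE (hcen (mem_centralizerIn.mpr ⟨D.le hw, fun e he => by
      rw [← conjAut_apply (hWE w hw) ⟨e, he⟩, h]; rfl⟩)))
    (by rwa [hZeq]) (by
      obtain ⟨k, hk⟩ := isPGroup_autInducedBy D.pgroup E
        ⟨_, conjAut_mem_autInducedBy (hWE w hw) (D.le hw)⟩
      exact ⟨k, congrArg Subtype.val hk⟩) (μ := 2)
    (fun h => by have := Nat.le_of_dvd two_pos h; have := D.big; omega)
  have hgZ : ∀ x ∈ Ze, g x ∈ Ze := by
    rw [← hZeq]
    rintro _ ⟨i, rfl⟩
    rw [map_zpow, hg0]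
    exact Subgroup.zpow_mem _ (Subgroup.pow_mem _ (Subgroup.mem_zpowers _) 2) i
  have hbot : ∀ (α : MulAut E), ∀ x ∈ (⊥ : Subgroup E), α x ∈ (⊥ : Subgroup E) := fun α x hx => by
    rw [Subgroup.mem_bot.mp hx, map_one]; exact Subgroup.one_mem _
  obtain ⟨k, hk, hag⟩ := exists_extension_of_normalizing D.pgroup hF hE.2.1
    (isPGroup_chainSub D.hp2 hEp hchain A) (chainSub_le _ _) (fun α hα => by
      obtain ⟨u, hu, e⟩ := mem_autInducedBy.mp hα
      refine mem_chainSub hEp hchain c1 c2 c3 (autInducedBy_le hES hα) ?_ (fun x hx => ?_) (hbot α)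
      · obtain ⟨i, hi⟩ := isPGroup_autInducedBy D.pgroup E ⟨α, hα⟩
        exact ⟨i, congrArg Subtype.val hi⟩
      · show ((α x : E) : Ω) ∈ zW W
        rw [e, D.central (x : Ω) hx u hu, mul_inv_cancel_right]
        exact hx) hg
    (fun α hα => conj_chainSub hchain hg hgZ (hbot g) hα)
  have hWN : W ≤ normalizerIn S E := fun x hx => ⟨D.le hx, hWE x hx⟩
  have hkW : IsMap F W k := hk.mono hWN
  have hi : img W k = W := Subgroup.eq_of_le_of_card_ge (IsMap.img_le_iff.mpr fun x hx =>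
    D.mem_of_pow (hkW.mem_S hx) (by rw [← hkW.map_pow hx, D.pow_eq hx, hkW.map_one])) hkW.card_img.ge
  obtain ⟨γ, hγ, hγk⟩ := hkW.exists_aut hi
  by_cases hL : ∀ x ∈ D.line, autFun γ x ∈ D.line
  swap
  · push Not at hL
    obtain ⟨x, hx, hx'⟩ := hL
    exact D.false_of_move hF hout hγ hx hx'
  refine D.sq_one hout hF hγ hL (hEW e1.2) (fun h1L => ?_) ?_
  · -- otherwise the group is the middle line
    have hEL : E ≤ D.line := fun x hx => by
      obtain ⟨i, j, e⟩ := gen_two (fun a b => Subtype.ext (hab a a.2 b b.2))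
        (fun a => Subtype.ext (D.pow_eq (hEW a.2))) hEc hz1 he1 ⟨x, hx⟩
      have := congrArg Subtype.val e
      simp only [Subgroup.coe_mul, Subgroup.coe_zpow] at this
      rw [this]
      exact D.line.mul_mem (D.line.zpow_mem (D.zW_le_line hz) i) (D.line.zpow_mem h1L j)
    haveI : Finite D.line := finite_of_le ((D.line_le).trans D.le)
    have hEeq : E = D.line :=
      Subgroup.eq_of_le_of_card_ge hEL (by rw [D.card_line hout, hEc])
    obtain ⟨u, hu, huout⟩ := id hout
    have hcentr : ∀ c ∈ S, c * (e1 : Ω) * c⁻¹ = e1 → c ∈ E := fun c hc hce => by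
      refine hcen (mem_centralizerIn.mpr ⟨hc, fun x hx => ?_⟩)
      obtain ⟨i, j, e⟩ := gen_two (fun a b => Subtype.ext (hab a a.2 b b.2))
        (fun a => Subtype.ext (D.pow_eq (hEW a.2))) hEc hz1 he1 ⟨x, hx⟩
      have := congrArg Subtype.val e
      simp only [Subgroup.coe_mul, Subgroup.coe_zpow] at this
      rw [this, ← conj_mul, ← conj_zpow, ← conj_zpow, hce, D.central (z : Ω) hz c hc, mul_inv_cancel_right]
    set ζ := w * (e1 : Ω) * w⁻¹ * (e1 : Ω)⁻¹ with hζ
    have hζZ : ζ ∈ zW W := D.comm_mem hw (hEW e1.2)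
    have hζ1 : ζ ≠ 1 := fun h => hwE (hcentr w (D.le hw) (mul_inv_eq_one.mp h))
    haveI : Finite (zW W) := finite_of_le ((inf_le_left : zW W ≤ W).trans D.le)
    have hgenZ : Subgroup.zpowers ζ = zW W := Subgroup.eq_of_le_of_card_ge
      (Subgroup.zpowers_le.mpr hζZ)
      (by rw [Nat.card_zpowers, D.card_zW, orderOf_eq_prime (D.pow_eq hζZ.1) hζ1])
    obtain ⟨n, hn⟩ := hgenZ.ge (h1L.2 u hu)
    change ζ ^ n = _ at hn
    refine huout fun x hx => ?_
    have hc1 : ((w ^ n)⁻¹ * u) * (e1 : Ω) * ((w ^ n)⁻¹ * u)⁻¹ = e1 := by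
      have hwn : w ^ n * (e1 : Ω) * (w ^ n)⁻¹ = ζ ^ n * e1 := by
        let ws : S := ⟨w, D.le hw⟩
        let es : S := ⟨e1, hES e1.2⟩
        have := comm_zpow (z := ws * es * ws⁻¹ * es⁻¹)
          (fun s => Subtype.ext (D.central _ hζZ s s.2).symm) (x := ws) (y := es) (by group) n 1
        simpa [ws, es, hζ] using congrArg Subtype.val this
      calc ((w ^ n)⁻¹ * u) * (e1 : Ω) * ((w ^ n)⁻¹ * u)⁻¹
          = (w ^ n)⁻¹ * ((u * e1 * u⁻¹ * (e1 : Ω)⁻¹) * e1) * w ^ n := by group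
        _ = (w ^ n)⁻¹ * (w ^ n * (e1 : Ω) * (w ^ n)⁻¹) * w ^ n := by rw [hwn, hn]
        _ = e1 := by group
    have huW : u ∈ W := by
      have := W.mul_mem (W.zpow_mem hw n)
        (hEW (hcentr _ (S.mul_mem (S.inv_mem (S.zpow_mem (D.le hw) n)) hu) hc1))
      rwa [mul_inv_cancel_left] at this
    exact D.comm_mem huW hx
  · rw [hγk _ (hEW e1.2), hag _ e1.2, autFun_apply]
    have := congrArg Subtype.val hg1
    rw [Subgroup.coe_pow] at this
    rw [this, mul_inv_cancel]
    exact D.line.one_mem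

theorem false_of_essential (hWS : W < S) {E : Subgroup Ω} (hE : F.IsEssential p E)
    (hlt : E < S) : False := by
  have hp : p.Prime := Fact.out
  have hES := hE.1.1
  haveI := finite_of_le D.le
  haveI := finite_of_le hES
  haveI : Finite (MulAut E) := Finite.of_injective (fun f : MulAut E => (f : E → E)) DFunLike.coe_injective
  have hcen : centralizerIn S E ≤ E := hE.1.2 E (isConj_refl hES)
  have hEp : IsPGroup p E := D.pgroup.to_le hES
  obtain ⟨R₁, R₂, hR⟩ := exists_two_sylow_of_essential D.pgroup hE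
  have hnot : ¬ Subsingleton (Sylow p (F.autGroup E)) := fun h => hR (Subsingleton.elim _ _)
  set A := F.autGroup E
  set Xs := W.subgroupOf E
  have hXmem : ∀ x : E, x ∈ Xs ↔ x ^ p = 1 := fun x => by
    rw [Subgroup.mem_subgroupOf, D.mem_iff x (hES x.2)]
    exact ⟨fun h => Subtype.ext (by rw [Subgroup.coe_pow, h, Subgroup.coe_one]),
      fun h => by rw [← Subgroup.coe_pow, h, Subgroup.coe_one]⟩
  have hXinv : ∀ α ∈ A, ∀ x ∈ Xs, α x ∈ Xs := fun α _ x hx =>
    (hXmem _).mpr (by rw [← map_pow, (hXmem x).mp hx, map_one])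
  have hbot : ∀ α ∈ A, ∀ x ∈ (⊥ : Subgroup E), α x ∈ (⊥ : Subgroup E) := fun α _ x hx => by
    rw [Subgroup.mem_bot.mp hx, map_one]; exact Subgroup.one_mem _
  obtain ⟨i, hi⟩ := IsPGroup.iff_card.mp (hEp.to_subgroup Xs)
  have hi3 : i ≤ 3 := by
    have h : Nat.card Xs ≤ Nat.card W :=
      Nat.card_le_card_of_injective (fun x : Xs => (⟨x.1.1, x.2⟩ : W)) fun a b h =>
        Subtype.ext (Subtype.ext (congrArg (fun y : W => (y : Ω)) h))
    rw [hi, D.card] at h
    exact (Nat.pow_le_pow_iff_right hp.one_lt).mp h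
  rcases le_or_gt i 1 with hi1 | hi1
  · -- a cyclic subgroup
    have hcyc : IsCyclic E := by
      refine (Cfsg.Lib.UniqueSub.isCyclic_or_quaternion hEp fun x y hx hy => ?_).resolve_right
        fun h => D.hp2 h.1
      have hxX : x ∈ Xs := (hXmem x).mpr (by rw [← hx, pow_orderOf_eq_one])
      have hyX : y ∈ Xs := (hXmem y).mpr (by rw [← hy, pow_orderOf_eq_one])
      have hle : Nat.card Xs ≤ Nat.card (Subgroup.zpowers x) := by
        rw [hi, Nat.card_zpowers, hx]
        exact (Nat.pow_le_pow_right hp.pos hi1).trans_eq (pow_one p)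
      exact (Subgroup.eq_of_le_of_card_ge (Subgroup.zpowers_le.mpr hxX) hle).ge hyX
    exact hnot (subsingleton_sylow_aut_of_cyclic _)
  have hZE : zW W ≤ E := fun z hz => hcen (mem_centralizerIn.mpr ⟨D.le hz.1, fun e he => by
    rw [← D.central z hz e (hES he), mul_inv_cancel_right]⟩)
  set Zs := (zW W).subgroupOf E
  have hZc : Nat.card Zs = p :=
    (Nat.card_congr (Subgroup.subgroupOfEquivOfLe hZE).toEquiv).trans D.card_zW
  have hZX : Zs ≤ Xs := fun x hx => hx.1
  by_cases hi2 : i = 2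
  · subst hi2
    haveI hXn : Xs.Normal := ⟨fun x hx g => (hXmem _).mpr (by
      rw [conj_pow, (hXmem x).mp hx, mul_one, mul_inv_cancel])⟩
    -- the subgroup is central
    have hXcen : ∀ x ∈ Xs, x ∈ Subgroup.center E := by
      by_contra h
      push Not at h
      obtain ⟨x, hx, hxc⟩ := h
      set Y := Xs ⊓ Subgroup.center E
      have hne : Xs ≠ ⊥ := fun e => hxc (by
        rw [e, Subgroup.mem_bot] at hx
        rw [hx]
        exact Subgroup.one_mem _)
      obtain ⟨c, hcX, hcc, hco⟩ := Cfsg.Lib.PGroups.exists_mem_center_of_normal_ne_bot hEp hne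
      obtain ⟨j, hj⟩ := IsPGroup.iff_card.mp (hEp.to_subgroup Y)
      have hY : Nat.card Y = p := by
        have h1 : p ≤ Nat.card Y := by
          rw [← hco, ← Nat.card_zpowers]
          exact Subgroup.card_le_of_le (Subgroup.zpowers_le.mpr ⟨hcX, hcc⟩)
        have h2 : Nat.card Y < p ^ 2 := hi ▸ lt_of_le_of_ne (Subgroup.card_le_of_le inf_le_left)
          fun e => hxc ((Subgroup.eq_of_le_of_card_ge (inf_le_left : Y ≤ Xs) e.ge).ge hx).2
        rw [hj] at h1 h2 ⊢
        have := (Nat.pow_lt_pow_iff_right hp.one_lt).mp h2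
        have : j ≠ 0 := fun h0 => by rw [h0, pow_zero] at h1; exact absurd h1 (not_le.mpr hp.one_lt)
        rw [show j = 1 by omega, pow_one]
      refine hnot (subsingleton_of_chain D.hp2 hEp ⟨hXmem, inf_le_left, bot_le⟩
        (by rw [hi, hY, pow_two]) (by rw [hY, Subgroup.card_bot, mul_one])
        (by rw [Subgroup.card_bot]; exact one_dvd p) A (fun α hα y hy => ⟨hXinv α hα y hy.1, ?_⟩) hbot)
      refine Subgroup.mem_center_iff.mpr fun g => ?_
      have := congrArg α (Subgroup.mem_center_iff.mp hy.2 (α⁻¹ g))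
      rwa [map_mul, map_mul, MulAut.apply_inv_self] at this
    have hchain : Chain p Xs Zs ⊥ := ⟨hXmem, hZX, bot_le⟩
    obtain ⟨β, hβ, z, hz, hβz⟩ : ∃ β ∈ A, ∃ z ∈ Zs, β z ∉ Zs := by
      by_contra h
      push Not at h
      exact hnot (subsingleton_of_chain D.hp2 hEp hchain (by rw [hi, hZc, pow_two])
        (by rw [hZc, Subgroup.card_bot, mul_one]) (by rw [Subgroup.card_bot]; exact one_dvd p) A h hbot)
    -- an element of `W` outside normalizing the subgroup
    obtain ⟨w, hw, hwn, hwE⟩ : ∃ w ∈ W, w ∈ Subgroup.normalizer (E : Set Ω) ∧ w ∉ E := by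
      have hnle : ¬ W ≤ E := fun h => by
        have h1 := Nat.card_congr (Subgroup.subgroupOfEquivOfLe h).toEquiv
        rw [hi, D.card] at h1
        exact (Nat.pow_lt_pow_right hp.one_lt (by norm_num : 2 < 3)).ne h1
      have hlt' : E < W ⊔ E := lt_of_le_of_ne le_sup_right fun e => hnle (e.ge.trans' le_sup_left)
      obtain ⟨g, hg, hgE⟩ := SetLike.exists_of_lt (lt_inf_normalizer D.pgroup hlt' (sup_le D.le hES))
      have hmem : g ∈ ((W ⊔ E : Subgroup Ω) : Set Ω) := hg.1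
      rw [Subgroup.coe_mul_of_right_le_normalizer_left W E (fun y hy => D.normalizes (hES hy))] at hmem
      obtain ⟨w, hw, e, he, hwe⟩ := hmem
      have hwg : w = g * e⁻¹ := by rw [← hwe]; group
      refine ⟨w, hw, hwg ▸ Subgroup.mul_mem _ hg.2 (Subgroup.inv_mem _ (Subgroup.le_normalizer he)),
        fun h => hgE (by rw [← hwe]; exact E.mul_mem h he)⟩
    have haA : conjAut E w hwn ∈ A := autInducedBy_le hES (conjAut_mem_autInducedBy hwn (D.le hw))
    set r := resHom A Xs hXinv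
    have hz1 : z ≠ 1 := fun h => hβz (by rw [h, map_one]; exact Subgroup.one_mem _)
    have hZeq : Subgroup.zpowers z = Zs := Subgroup.eq_of_le_of_card_ge (Subgroup.zpowers_le.mpr hz)
      (by rw [Nat.card_zpowers, hZc, orderOf_eq_prime ((hXmem z).mp (hZX hz)) hz1])
    have hXexp : ∀ x : Xs, x ^ p = 1 := fun x => Subtype.ext ((hXmem x.1).mp x.2)
    have hXcomm : ∀ a b : Xs, a * b = b * a := fun a b =>
      Subtype.ext (Subgroup.mem_center_iff.mp (hXcen b b.2) a)
    have hzXs : ∀ y : Xs, y ∈ Subgroup.zpowers (⟨z, hZX hz⟩ : Xs) ↔ (y : E) ∈ Zs := by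
      intro y
      rw [← hZeq]
      constructor
      · rintro ⟨n, rfl⟩
        exact ⟨n, rfl⟩
      · rintro ⟨n, hn⟩
        exact ⟨n, Subtype.ext hn⟩
    obtain ⟨g, ⟨⟨γ, hγ⟩, rfl⟩, e1, he1, hg0, hg1⟩ := exists_diag hXcomm hXexp hi (A := r.range)
      (a := r ⟨_, haA⟩) (β := r ⟨β, hβ⟩) ⟨_, rfl⟩ ⟨_, rfl⟩ (e0 := ⟨z, hZX hz⟩)
      (fun h => hz1 (congrArg Subtype.val h))
      (Subtype.ext (Subtype.ext (by
        show w * ((z : E) : Ω) * w⁻¹ = _
        rw [Subgroup.mem_centralizer_iff.mp (show ((z : E) : Ω) ∈ zW W from hz).2 w hw, mul_inv_cancel_right])))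
      (fun h => by
        -- `W` would be commutative
        have hfixX : ∀ x ∈ Xs, w * (x : Ω) * w⁻¹ = x := fun x hx => by
          have := congrArg (fun f : MulAut Xs => (((f ⟨x, hx⟩ : Xs) : E) : Ω)) h
          exact this
        let T := W ⊓ E
        have hTc : Nat.card T = p ^ 2 := by
          rw [← hi]
          exact Nat.card_congr
            { toFun := fun y => ⟨⟨y, y.2.2⟩, y.2.1⟩
              invFun := fun y => ⟨y.1.1, y.2, y.1.2⟩
              left_inv := fun _ => rfl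
              right_inv := fun _ => rfl }
        have hTW : T ≤ W := inf_le_left
        have hwT : Subgroup.zpowers w ⊔ T = W := by
          have hle : Subgroup.zpowers w ⊔ T ≤ W := sup_le (Subgroup.zpowers_le.mpr hw) hTW
          have hlt2 : T < Subgroup.zpowers w ⊔ T := lt_of_le_of_ne le_sup_right fun e =>
            hwE (e.ge (Subgroup.mem_sup_left (Subgroup.mem_zpowers w))).2
          have h1 := eq_of_lt_of_card D.pgroup (hle.trans D.le) hlt2
          exact Subgroup.eq_of_le_of_card_ge hle (by rw [D.card, pow_succ']; rwa [hTc] at h1)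
        haveI := Cfsg.Lib.Fusion.finite_of_le (hTW.trans D.le)
        have hcl : Subgroup.zpowers w ⊔ T = Subgroup.closure ({w} ∪ (T : Set Ω)) := by
          rw [Subgroup.closure_union, Subgroup.closure_eq, Subgroup.zpowers_eq_closure]
        have hcomm : ∀ a ∈ W, ∀ b ∈ W, a * b = b * a := by
          have hgen : ∀ a ∈ ({w} ∪ (T : Set Ω)), ∀ b ∈ ({w} ∪ (T : Set Ω)), a * b = b * a := by
            have hwx : ∀ b ∈ T, w * b = b * w := fun b hb =>
              mul_inv_eq_iff_eq_mul.mp (hfixX ⟨b, hb.2⟩ hb.1)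
            rintro a (rfl | ha) b (rfl | hb)
            · rfl
            · exact hwx b hb
            · exact (hwx a ha).symm
            · exact congrArg Subtype.val
                (Subgroup.mem_center_iff.mp (hXcen ⟨b, hb.2⟩ hb.1) ⟨a, ha.2⟩)
          have hcm := Subgroup.isMulCommutative_closure hgen
          intro a ha b hb
          rw [← hwT, hcl] at ha hb
          exact congrArg Subtype.val (hcm.is_comm.comm (⟨a, ha⟩ : Subgroup.closure _) ⟨b, hb⟩)
        exact D.nonab hcomm)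
      (fun h => hβz ((hzXs _).mp h)) (by
        obtain ⟨k, hk⟩ := isPGroup_autInducedBy D.pgroup E ⟨_, conjAut_mem_autInducedBy hwn (D.le hw)⟩
        refine ⟨k, ?_⟩
        rw [← map_pow, show (⟨_, haA⟩ : A) ^ p ^ k = 1 from Subtype.ext (congrArg Subtype.val hk :),
          map_one])
      (μ := p - 1) (fun h => by
        have := Nat.le_of_dvd (by have := D.big; omega) h
        have := D.big
        omega)
    have hinv : ∀ x ∈ Xs, γ x = x⁻¹ := by
      intro x hx
      have hm : ∀ y : Xs, y ^ (p - 1) = y⁻¹ := fun y => eq_inv_of_mul_eq_one_left (by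
        rw [← pow_succ, Nat.sub_add_cancel hp.one_le, hXexp])
      obtain ⟨a, b, e⟩ := gen_two hXcomm hXexp hi (fun h => hz1 (congrArg Subtype.val h)) he1 ⟨x, hx⟩
      have h1 : r ⟨γ, hγ⟩ ⟨x, hx⟩ = (⟨x, hx⟩ : Xs)⁻¹ := by
        have hge1 : r ⟨γ, hγ⟩ e1 = e1⁻¹ := by
          rw [hm] at hg1
          conv_rhs => rw [← hg1, inv_inv]
        rw [e, map_mul, map_zpow, map_zpow, hg0, hm, hge1, mul_inv_rev, inv_zpow, inv_zpow, hXcomm]
      exact congrArg Subtype.val h1
    -- the involution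
    set c := (orderOf γ).factorization p
    set τ := γ ^ p ^ c
    have hpow : ∀ (n : ℕ), ∀ x ∈ Xs, (γ ^ (2 * n)) x = x ∧ (γ ^ (2 * n + 1)) x = x⁻¹ := by
      intro n
      induction n with
      | zero => intro x hx; exact ⟨rfl, by rw [pow_one]; exact hinv x hx⟩
      | succ n ih =>
        intro x hx
        have h2 : (γ ^ (2 * (n + 1))) x = x := by
          rw [show 2 * (n + 1) = 2 * n + 1 + 1 by ring, pow_succ, MulAut.mul_apply, hinv x hx,
            map_inv, (ih x hx).2, inv_inv]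
        exact ⟨h2, by rw [pow_succ, MulAut.mul_apply, hinv x hx, map_inv, h2]⟩
    obtain ⟨m, hm⟩ : Odd (p ^ c) := (hp.odd_of_ne_two D.hp2).pow
    have hτX : ∀ x ∈ Xs, τ x = x⁻¹ := fun x hx => by
      show (γ ^ p ^ c) x = x⁻¹
      rw [hm]
      exact (hpow m x hx).2
    have hτ2 : τ ^ 2 = 1 := by
      refine Cfsg.Agent.S0120.result D.hp2 hEp _ ?_ fun x hx => ?_
      · refine Nat.Coprime.coprime_dvd_left (orderOf_pow_dvd 2) ?_
        rw [orderOf_pow_of_dvd (pow_ne_zero _ hp.ne_zero) (Nat.ordProj_dvd _ _)]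
        exact (Nat.coprime_ordCompl hp (orderOf_pos γ).ne').symm
      · rw [pow_two, MulAut.mul_apply, hτX x ((hXmem x).mpr hx), map_inv, hτX x ((hXmem x).mpr hx),
          inv_inv]
    have hfpf : MonoidHom.FixedPointFree (τ : E → E) := by
      intro e he
      by_contra hne
      obtain ⟨n, hn⟩ := IsPGroup.iff_orderOf.mp hEp e
      obtain ⟨n', rfl⟩ : ∃ n', n = n' + 1 := Nat.exists_eq_succ_of_ne_zero fun h0 => hne (by
        rw [h0, pow_zero] at hn
        exact orderOf_eq_one_iff.mp hn)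
      have hxo : orderOf (e ^ p ^ n') = p := by
        rw [orderOf_pow_of_dvd (pow_ne_zero _ hp.ne_zero) (hn ▸ pow_dvd_pow p (Nat.le_succ n')), hn,
          pow_succ, Nat.mul_div_cancel_left _ (pow_pos hp.pos n')]
      have hxX := (hXmem (e ^ p ^ n')).mpr (hxo ▸ pow_orderOf_eq_one (e ^ p ^ n') :)
      have h1 := hτX _ hxX
      rw [map_pow, he] at h1
      have h2 : (e ^ p ^ n') ^ 2 = 1 := by
        rw [pow_two]
        nth_rewrite 2 [h1]
        rw [mul_inv_cancel]
      have := Nat.le_of_dvd two_pos (hxo ▸ orderOf_dvd_of_pow_eq_one h2)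
      have := D.big
      omega
    have hτinv : Function.Involutive (τ : E → E) := fun e => by
      rw [← MulAut.mul_apply, ← pow_two, hτ2]; rfl
    have habE : ∀ a b : E, a * b = b * a := fun a b =>
      (MonoidHom.FixedPointFree.commute_all_of_involutive hfpf hτinv a b).eq
    have habI : IsMulCommutative E := ⟨⟨habE⟩⟩
    have hrk : (frattini E).index ≤ p ^ 2 := by
      letI : CommGroup E := { (inferInstance : Group E) with mul_comm := habE }
      let P := powMonoidHom (α := E) p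
      have hle : P.range ≤ frattini E := by
        rintro _ ⟨y, rfl⟩
        exact Cfsg.Lib.PGroups.pow_mem_frattini hEp y
      have hker : Nat.card P.ker = p ^ 2 := by
        rw [← hi]
        exact congrArg (fun K : Subgroup E => Nat.card K)
          (SetLike.ext fun y => (MonoidHom.mem_ker).trans (hXmem y).symm)
      have h1 := Subgroup.card_eq_card_quotient_mul_card_subgroup P.ker
      rw [Nat.card_congr (QuotientGroup.quotientKerEquivRange P).toEquiv, hker,
        ← P.range.card_mul_index] at h1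
      have h2 : P.range.index = p ^ 2 := Nat.eq_of_mul_eq_mul_left Nat.card_pos h1
      exact h2 ▸ Nat.le_of_dvd (by rw [h2]; exact pow_pos hp.pos 2) (Subgroup.index_dvd_of_le hle)
    rcases Cfsg.Agent.S5187.result p D.pgroup F hF E hE habI hrk with ⟨hel, hcard⟩ | ⟨h, -⟩
    · refine D.false_of_elementary hF hWS hE (fun x hx => ?_) hcard fun a ha b hb =>
        congrArg Subtype.val (habE ⟨a, ha⟩ ⟨b, hb⟩)
      exact D.mem_of_pow (hES hx) (hel.2 x hx)
    · have := D.big
      omega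
  -- the whole of `W` lies inside
  have hi' : i = 3 := by omega
  subst hi'
  have hWE : W ≤ E := by
    have hinf : W ⊓ E = W := Subgroup.eq_of_le_of_card_ge inf_le_left (by
      rw [D.card, ← hi]
      exact (Nat.card_congr
        { toFun := fun y => ⟨y.1.1, y.2, y.1.2⟩
          invFun := fun y => ⟨⟨y, y.2.2⟩, y.2.1⟩
          left_inv := fun _ => rfl
          right_inv := fun _ => rfl }).le)
    exact inf_eq_left.mp hinf
  have hXc : Nat.card Xs = p ^ 3 := hi
  have hZinv : ∀ α ∈ A, ∀ x ∈ Zs, α x ∈ Zs := fun α hα x hx =>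
    ⟨hXinv α hα x hx.1, Subgroup.mem_centralizer_iff.mpr fun v hv => by
      have hv' : (α⁻¹ ⟨v, hWE hv⟩ : E) ∈ Xs := hXinv _ (A.inv_mem hα) _ hv
      have h1 : α⁻¹ ⟨v, hWE hv⟩ * x = x * α⁻¹ ⟨v, hWE hv⟩ :=
        Subtype.ext (Subgroup.mem_centralizer_iff.mp hx.2 _ hv')
      have h2 := congrArg α h1
      rw [map_mul, map_mul, MulAut.apply_inv_self] at h2
      exact congrArg Subtype.val h2⟩
  by_cases hC1 : ∃ g ∈ E, ¬ ∀ w ∈ W, g * w * g⁻¹ * w⁻¹ ∈ zW W
  · obtain ⟨g, hgE, hg⟩ := hC1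
    have hout : Outside S W := ⟨g, hES hgE, hg⟩
    set Ls := D.line.subgroupOf E
    have hLc : Nat.card Ls = p ^ 2 :=
      (Nat.card_congr (Subgroup.subgroupOfEquivOfLe (D.line_le.trans hWE)).toEquiv).trans
        (D.card_line hout)
    refine hnot (subsingleton_of_chain D.hp2 hEp
      (⟨hXmem, fun x hx => D.line_le hx, fun x hx => D.zW_le_line hx⟩ : Chain p Xs Ls Zs)
      (by rw [hXc, hLc, pow_succ']) (by rw [hLc, hZc, pow_two]) (by rw [hZc]) A
      (fun α hα x hx => ?_) hZinv)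
    have h1 : ((α⁻¹ ⟨g, hgE⟩ * x * (α⁻¹ ⟨g, hgE⟩)⁻¹ * x⁻¹ : E) : Ω) ∈ zW W :=
      hx.2 _ (hES (α⁻¹ ⟨g, hgE⟩).2)
    have h2 : α (α⁻¹ ⟨g, hgE⟩ * x * (α⁻¹ ⟨g, hgE⟩)⁻¹ * x⁻¹) ∈ Zs := hZinv α hα _ h1
    rw [map_mul, map_mul, map_mul, map_inv, map_inv, MulAut.apply_inv_self] at h2
    exact D.mem_line_of_disp hout (hES hgE) hg (hXinv α hα x (D.line_le hx)) h2
  · push Not at hC1
    have hCE : centralizerIn S W ≤ E := by
      obtain ⟨c0, hc0, hgen⟩ := D.cyclic
      refine fun c hc => hcen (mem_centralizerIn.mpr ⟨(mem_centralizerIn.mp hc).1, fun x hx => ?_⟩)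
      obtain ⟨w, hw, c', hc', rfl⟩ := D.split (hES hx) (hC1 x hx)
      rw [hgen] at hc' hc
      obtain ⟨n, rfl⟩ := hc
      obtain ⟨n', rfl⟩ := hc'
      have h1 : c0 ^ n * w = w * c0 ^ n :=
        D.comm_centralizer (hgen ▸ Subgroup.zpow_mem _ (Subgroup.mem_zpowers c0) n) hw
      show c0 ^ n * (w * c0 ^ n') * (c0 ^ n)⁻¹ = w * c0 ^ n'
      rw [← mul_assoc, h1]
      group
    have hle : E ≤ W ⊔ centralizerIn S W := fun x hx => by
      obtain ⟨w, hw, c', hc', rfl⟩ := D.split (hES hx) (hC1 x hx)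
      exact Subgroup.mul_mem _ (Subgroup.mem_sup_left hw) (Subgroup.mem_sup_right hc')
    obtain ⟨u, hu, huE⟩ := SetLike.exists_of_lt hlt
    have hout : Outside S W := D.outside_of_not_le hu fun h => huE (sup_le hWE hCE h)
    set Ls := D.line.subgroupOf E
    have hLc : Nat.card Ls = p ^ 2 :=
      (Nat.card_congr (Subgroup.subgroupOfEquivOfLe (D.line_le.trans hWE)).toEquiv).trans
        (D.card_line hout)
    by_cases hinvL : ∀ α ∈ A, ∀ x ∈ Ls, α x ∈ Ls
    · exact hnot (subsingleton_of_chain D.hp2 hEp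
        (⟨hXmem, fun x hx => D.line_le hx, fun x hx => D.zW_le_line hx⟩ : Chain p Xs Ls Zs)
        (by rw [hXc, hLc, pow_succ']) (by rw [hLc, hZc, pow_two]) (by rw [hZc]) A hinvL hZinv)
    push Not at hinvL
    obtain ⟨α, hα, x, hx, hαx⟩ := hinvL
    have hm : IsMap F W (autFun α) := ((isMap_autFun hES).mpr hα).mono hWE
    have him : img W (autFun α) = W := Subgroup.eq_of_le_of_card_ge (IsMap.img_le_iff.mpr fun y hy =>
      D.mem_of_pow (hm.mem_S hy) (by rw [← hm.map_pow hy, D.pow_eq hy, hm.map_one])) hm.card_img.ge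
    obtain ⟨γ, hγ, hγα⟩ := hm.exists_aut him
    refine D.false_of_move hF hout hγ hx fun h => hαx ?_
    show ((α x : E) : Ω) ∈ D.line
    exact (show autFun γ (x : Ω) = ((α x : E) : Ω) from (hγα _ (D.line_le hx)).trans (autFun_apply α x)) ▸ h

end Setup

end Cfsg.Lib.Fusion.RankTwo
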