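import Cfsg.Agent.Fusion.RankTwo.Basic
import Cfsg.Agent.Fusion.RankTwo.Chain
import Cfsg.Agent.Fusion.RankTwo.Diag
import Cfsg.Agent.Fusion.Metacyclic

/-!
An automorphism of `W` preserving the middle line and squaring back a top element is impossible.
-/

set_option autoImplicit false
set_option linter.style.haveILetI false
set_option linter.unusedSectionVars false

namespace Cfsg.Lib.Fusion.RankTwo

open Cfsg Cfsg.FusionSystem

/-- Powers across a central commutator. -/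
theorem comm_zpow {G : Type*} [Group G] {x y z : G} (hz : ∀ g, Commute z g)
    (h : x * y * x⁻¹ = z * y) (m n : ℤ) : x ^ m * y ^ n * (x ^ m)⁻¹ = z ^ (m * n) * y ^ n := by
  have h1 : x * y ^ n * x⁻¹ = z ^ n * y ^ n := by rw [← conj_zpow, h, (hz y).mul_zpow]
  have h2 : y ^ n * x * (y ^ n)⁻¹ = z ^ (-n) * x := by
    rw [zpow_neg]
    calc y ^ n * x * (y ^ n)⁻¹ = (z ^ n)⁻¹ * ((z ^ n * y ^ n) * x * (y ^ n)⁻¹) := by group
      _ = (z ^ n)⁻¹ * ((x * y ^ n * x⁻¹) * x * (y ^ n)⁻¹) := by rw [h1]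
      _ = _ := by group
  have h3 : y ^ n * x ^ m * (y ^ n)⁻¹ = z ^ (-n * m) * x ^ m := by
    rw [← conj_zpow, h2, ((hz x).zpow_left _).mul_zpow, ← zpow_mul]
  have h4 := mul_inv_eq_iff_eq_mul.mp h3
  rw [mul_inv_eq_iff_eq_mul]
  calc x ^ m * y ^ n = z ^ (m * n) * (z ^ (-n * m) * x ^ m * y ^ n) := by
        rw [← mul_assoc, ← mul_assoc, ← zpow_add, show m * n + -n * m = 0 by ring, zpow_zero, one_mul]
    _ = _ := by rw [← h4, mul_assoc]

universe u

variable {Ω : Type u} [Group Ω] {S : Subgroup Ω} {p : ℕ} {W : Subgroup Ω} [Finite S] [Fact p.Prime]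

namespace Setup

variable (D : Setup S W p)
include D

theorem zW_iff {x : W} : (x : Ω) ∈ zW W ↔ x ∈ Subgroup.center W := by
  rw [Subgroup.mem_center_iff]
  refine ⟨fun h g => Subtype.ext (Subgroup.mem_centralizer_iff.mp h.2 g g.2), fun h => ⟨x.2, ?_⟩⟩
  exact Subgroup.mem_centralizer_iff.mpr fun g hg => congrArg Subtype.val (h ⟨g, hg⟩)

theorem zW_aut (β : MulAut W) {x : W} (hx : (x : Ω) ∈ zW W) : ((β x : W) : Ω) ∈ zW W := by
  rw [D.zW_iff, Subgroup.mem_center_iff] at *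
  intro g
  have h := congrArg β (hx (β⁻¹ g))
  rwa [map_mul, map_mul, MulAut.apply_inv_self] at h

theorem fullyNormalized (F : FusionSystem S) : F.IsFullyNormalized W := by
  refine ⟨D.le, fun Q _ => ?_⟩
  have h : normalizerIn S W = S := le_antisymm inf_le_left fun g hg => ⟨hg, D.normalizes hg⟩
  rw [h]
  exact Subgroup.card_le_of_le inf_le_left

theorem chain_W (hout : Outside S W) :
    Chain p (⊤ : Subgroup W) (D.line.subgroupOf W) ((zW W).subgroupOf W) where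
  mem x := ⟨fun _ => Subtype.ext (D.pow_eq x.2), fun _ => Subgroup.mem_top x⟩
  le1 := le_top
  le2 := fun _ hx => D.zW_le_line hx

theorem card_chain (hout : Outside S W) :
    Nat.card (⊤ : Subgroup W) = p * Nat.card (D.line.subgroupOf W) ∧
      Nat.card (D.line.subgroupOf W) = p * Nat.card ((zW W).subgroupOf W) ∧
      Nat.card ((zW W).subgroupOf W) ∣ p := by
  rw [Subgroup.card_top, Nat.card_congr (Subgroup.subgroupOfEquivOfLe D.line_le).toEquiv,
    show Nat.card ((zW W).subgroupOf W) = Nat.card (zW W) from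
      Nat.card_congr (Subgroup.subgroupOfEquivOfLe inf_le_left).toEquiv, D.card, D.card_zW,
    D.card_line hout]
  exact ⟨pow_succ' p 2, pow_two p, dvd_rfl⟩

/-- The automorphism extends to all of `S`. -/
theorem exists_ext (hout : Outside S W) {F : FusionSystem S} (hF : F.IsSaturated p) {β : MulAut W}
    (hβ : β ∈ F.autGroup W) (hL : ∀ x ∈ D.line, autFun β x ∈ D.line) :
    ∃ φ : S →* S, ∀ (x : S) (hx : (x : Ω) ∈ W), ((φ x : S) : Ω) = autFun β x := by
  haveI := finite_of_le D.le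
  have hWp : IsPGroup p W := D.pgroup.to_le D.le
  obtain ⟨c1, c2, c3⟩ := D.card_chain hout
  have hc := D.chain_W hout
  obtain ⟨k, hk, hag⟩ := exists_extension_of_normalizing D.pgroup hF (D.fullyNormalized F)
    (isPGroup_chainSub D.hp2 hWp hc (F.autGroup W)) (chainSub_le _ _) (fun α hα => by
      obtain ⟨g, hg, e⟩ := mem_autInducedBy.mp hα
      refine mem_chainSub hWp hc c1 c2 c3 (autInducedBy_le D.le hα) ?_ (fun x hx => ?_)
        (fun x hx => D.zW_aut α hx)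
      · obtain ⟨i, hi⟩ := isPGroup_autInducedBy D.pgroup W ⟨α, hα⟩
        exact ⟨i, congrArg Subtype.val hi⟩
      · show ((α x : W) : Ω) ∈ D.line
        rw [e]
        exact D.line_conj hg hx) hβ
    (fun α hα => conj_chainSub hc hβ (fun x hx => by
      show ((β x : W) : Ω) ∈ D.line
      rw [← autFun_apply]
      exact hL _ hx) (fun x hx => D.zW_aut β hx) hα)
  have hS : ∀ x : S, (x : Ω) ∈ normalizerIn S W := fun x => ⟨x.2, D.normalizes x.2⟩
  refine ⟨MonoidHom.mk' (fun x => ⟨k x, hk.mem_S (hS x)⟩)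
    (fun x y => Subtype.ext (hk.map_mul (hS x) (hS y))), fun x hx => hag _ hx⟩

theorem sq_one (hout : Outside S W) {F : FusionSystem S} (hF : F.IsSaturated p) {β : MulAut W}
    (hβ : β ∈ F.autGroup W) (hL : ∀ x ∈ D.line, autFun β x ∈ D.line) {e1 : Ω} (he1W : e1 ∈ W)
    (he1L : e1 ∉ D.line) (hsq : autFun β e1 ^ 2 * e1⁻¹ ∈ D.line) : False := by
  have hp : p.Prime := Fact.out
  haveI := finite_of_le D.le
  obtain ⟨φ, hφ⟩ := D.exists_ext hout hF hβ hL
  -- the centralizer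
  have hCmem : ∀ {x : Ω}, x ∈ centralizerIn S W → x ∈ W → x ∈ zW W := fun {x} hx hxW =>
    ⟨hxW, Subgroup.mem_centralizer_iff.mpr fun w hw => (D.comm_centralizer hx hw).symm⟩
  have hZC : ∀ {x : Ω}, x ∈ zW W → x ∈ centralizerIn S W := fun {x} hx =>
    mem_centralizerIn.mpr ⟨D.le hx.1, fun w hw => by
      rw [← Subgroup.mem_centralizer_iff.mp hx.2 w hw, mul_inv_cancel_right]⟩
  let Cs : Subgroup S := (centralizerIn S W).subgroupOf S
  haveI hCn : Cs.Normal := ⟨fun c hc g => by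
    refine mem_centralizerIn.mpr ⟨(g * c * g⁻¹).2, fun w hw => ?_⟩
    have h1 : (g : Ω)⁻¹ * w * g ∈ W := by
      have := D.conj_mem (S.inv_mem g.2) hw
      rwa [inv_inv] at this
    show (g : Ω) * c * (g : Ω)⁻¹ * w * ((g : Ω) * c * (g : Ω)⁻¹)⁻¹ = w
    calc (g : Ω) * c * (g : Ω)⁻¹ * w * ((g : Ω) * c * (g : Ω)⁻¹)⁻¹
        = g * (c * ((g : Ω)⁻¹ * w * g) * (c : Ω)⁻¹) * (g : Ω)⁻¹ := by group
      _ = w := by rw [(mem_centralizerIn.mp (show (c : Ω) ∈ centralizerIn S W from hc)).2 _ h1]; group⟩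
  set π := QuotientGroup.mk' Cs with hπdef
  have hker : ∀ x : S, π x = 1 ↔ (x : Ω) ∈ centralizerIn S W := fun x =>
    QuotientGroup.eq_one_iff x
  have hkerW : ∀ x : S, (x : Ω) ∈ W → π x = 1 → (x : Ω) ∈ zW W := fun x hx h =>
    hCmem ((hker x).mp h) hx
  have hkerZ : ∀ x : S, (x : Ω) ∈ zW W → π x = 1 := fun x hx => (hker x).mpr (hZC hx)
  -- the generators
  have hnle : ¬ D.line ≤ zW W := fun h => by
    haveI : Finite (zW W) := finite_of_le ((inf_le_left : zW W ≤ W).trans D.le)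
    have := Subgroup.card_le_of_le h
    rw [D.card_line hout, D.card_zW] at this
    have : p * 1 < p * p := Nat.mul_lt_mul_of_pos_left hp.one_lt hp.pos
    rw [pow_two] at *
    omega
  obtain ⟨e0, he0L, he0Z⟩ := SetLike.not_le_iff_exists.mp hnle
  have hout0 := hout
  obtain ⟨u0, hu0, hu0out⟩ := hout
  let E0 : S := ⟨e0, D.le (D.line_le he0L)⟩
  let E1 : S := ⟨e1, D.le he1W⟩
  let U : S := ⟨u0, hu0⟩
  set ε := π E0
  set η := π E1
  set υ := π U
  have hε1 : ε ≠ 1 := fun h => he0Z (hkerW E0 (D.line_le he0L) h)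
  have hεp : ε ^ p = 1 := by
    rw [← map_pow, show E0 ^ p = 1 from Subtype.ext (D.pow_eq (D.line_le he0L)), map_one]
  have hηp : η ^ p = 1 := by
    rw [← map_pow, show E1 ^ p = 1 from Subtype.ext (D.pow_eq he1W), map_one]
  have hεc : ∀ q, Commute ε q := by
    intro q
    obtain ⟨g, rfl⟩ := QuotientGroup.mk'_surjective Cs q
    have h := hkerZ (g * E0 * g⁻¹ * E0⁻¹) (he0L.2 g g.2)
    rw [map_mul, map_mul, map_mul, map_inv, map_inv, mul_inv_eq_one, mul_inv_eq_iff_eq_mul] at h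
    exact h.symm
  have hline : ∀ l : S, (l : Ω) ∈ D.line → ∃ i : ℤ, π l = ε ^ i := by
    intro l hl
    obtain ⟨i, hi⟩ := D.line_gen hout0 he0L he0Z hl
    have h := hkerZ ((E0 ^ i)⁻¹ * l) (by simpa using hi)
    rw [map_mul, map_inv, map_zpow, inv_mul_eq_one] at h
    exact ⟨i, h.symm⟩
  have hcenW : ∀ h : S, Commute (π h) η → ∀ w ∈ W, (h : Ω) * w * (h : Ω)⁻¹ * w⁻¹ ∈ zW W := by
    intro h hh w hw
    obtain ⟨i, hi⟩ := D.top_gen hout0 he1W he1L hw
    let w' : S := ⟨w, D.le hw⟩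
    obtain ⟨j, hj⟩ := hline ((E1 ^ i)⁻¹ * w') (by simpa [E1, w'] using hi)
    rw [map_mul, map_inv, map_zpow, inv_mul_eq_iff_eq_mul] at hj
    have hcw : Commute (π h) (π w') := hj ▸ (hh.zpow_right i).mul_right ((hεc _).symm.zpow_right j)
    have := hkerW (h * w' * h⁻¹ * w'⁻¹) (by
      simpa [w'] using W.mul_mem (D.conj_mem h.2 hw) (W.inv_mem hw)) (by
      rw [map_mul, map_mul, map_mul, map_inv, map_inv, hcw.eq]
      group)
    simpa [w'] using this
  have hT : ∀ g : S, ∃ T : ℤ, π g * η * (π g)⁻¹ = ε ^ T * η := by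
    intro g
    obtain ⟨T, hTe⟩ := hline (g * E1 * g⁻¹ * E1⁻¹) (by
      simpa [E1] using D.disp_mem hout0 g.2 he1W)
    refine ⟨T, ?_⟩
    rw [map_mul, map_mul, map_mul, map_inv, map_inv] at hTe
    rw [← hTe, inv_mul_cancel_right]
  have hWη : ∀ w : S, (w : Ω) ∈ W → Commute (π w) η := by
    intro w hw
    have h := hkerZ (w * E1 * w⁻¹ * E1⁻¹) (by simpa [E1] using D.comm_mem hw he1W)
    rwa [map_mul, map_mul, map_mul, map_inv, map_inv, mul_inv_eq_one, mul_inv_eq_iff_eq_mul] at h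
  obtain ⟨d, hd⟩ := hT U
  have hUconj : ∀ m n : ℤ, υ ^ m * η ^ n * (υ ^ m)⁻¹ = (ε ^ d) ^ (m * n) * η ^ n :=
    comm_zpow (fun q => (hεc q).zpow_left d) hd
  have hdp : ¬ (p : ℤ) ∣ d := by
    rintro ⟨t, rfl⟩
    rw [zpow_mul, zpow_natCast, hεp, one_zpow, one_mul, mul_inv_eq_iff_eq_mul] at hd
    exact hu0out (hcenW U hd)
  -- every element is `w u ^ m c`
  have hdecomp : ∀ g : S, ∃ (m : ℤ) (w c : S), (w : Ω) ∈ W ∧ (c : Ω) ∈ centralizerIn S W ∧
      g = w * U ^ m * c := by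
    intro g
    obtain ⟨T, hTg⟩ := hT g
    obtain ⟨n, hn⟩ := exists_nat_pow hεp hdp T
    obtain ⟨w, hw, c, hc, e⟩ := D.split ((U ^ (n : ℤ))⁻¹ * g).2 (hcenW _ (by
      show π ((U ^ (n : ℤ))⁻¹ * g) * η = η * π ((U ^ (n : ℤ))⁻¹ * g)
      have h1 := hUconj n 1
      rw [zpow_one, mul_one, zpow_natCast, zpow_natCast, hn] at h1
      rw [map_mul, map_inv, map_zpow, zpow_natCast, mul_assoc, mul_inv_eq_iff_eq_mul.mp hTg]
      have h2 := mul_inv_eq_iff_eq_mul.mp h1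
      calc (υ ^ n)⁻¹ * (ε ^ T * η * π g) = (υ ^ n)⁻¹ * (ε ^ T * η * υ ^ n) * ((υ ^ n)⁻¹ * π g) := by
            group
        _ = η * ((υ ^ n)⁻¹ * π g) := by rw [← h2]; group))
    refine ⟨n, U ^ (n : ℤ) * ⟨w, D.le hw⟩ * (U ^ (n : ℤ))⁻¹, ⟨c, (mem_centralizerIn.mp hc).1⟩,
      by simpa using D.conj_mem (U ^ (n : ℤ)).2 hw, hc, ?_⟩
    calc g = U ^ (n : ℤ) * ((U ^ (n : ℤ))⁻¹ * g) := by group
      _ = U ^ (n : ℤ) * (⟨w, D.le hw⟩ * ⟨c, (mem_centralizerIn.mp hc).1⟩) := by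
        congr 1
        exact Subtype.ext e
      _ = _ := by group
  -- the action of `φ`
  have hφW : ∀ x : S, (x : Ω) ∈ W → ((φ x : S) : Ω) ∈ W := fun x hx => by
    rw [hφ x hx]; exact autFun_mem β hx
  have hφL : ∀ x : S, (x : Ω) ∈ D.line → ((φ x : S) : Ω) ∈ D.line := fun x hx => by
    rw [hφ x (D.line_le hx)]; exact hL _ hx
  have hφC : ∀ x : S, π x = 1 → π (φ x) = 1 := by
    intro x hx
    refine (hker _).mpr (mem_centralizerIn.mpr ⟨(φ x).2, fun w hw => ?_⟩)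
    set w0 := autFun β⁻¹ w
    have hw0 : w0 ∈ W := autFun_mem _ hw
    let w0' : S := ⟨w0, D.le hw0⟩
    have h1 : ((φ w0' : S) : Ω) = w := (hφ w0' hw0).trans (autFun_inv_apply β hw)
    have h2 : x * w0' * x⁻¹ = w0' := Subtype.ext ((mem_centralizerIn.mp ((hker x).mp hx)).2 _ hw0)
    have h3 := congrArg (fun y : S => ((φ y : S) : Ω)) h2
    simpa [h1] using h3
  obtain ⟨a, hae⟩ := hline (φ E0) (hφL E0 he0L)
  obtain ⟨b, hb⟩ := D.top_gen hout0 he1W he1L (autFun_mem β he1W)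
  have hb2 : (p : ℤ) ∣ 2 * b - 1 := by
    refine dvd_of_zpow_mem he1L (D.pow_eq he1W) ?_
    set l := (e1 ^ b)⁻¹ * autFun β e1
    have e : autFun β e1 ^ 2 * e1⁻¹ =
        e1 ^ (2 * b - 1) * (e1 * ((e1 ^ b)⁻¹ * l * (e1 ^ b)⁻¹⁻¹ * l) * e1⁻¹) := by
      rw [pow_two, show autFun β e1 = e1 ^ b * l by simp [l]]
      group
    rw [e] at hsq
    have hb' : e1 ^ b ∈ S := S.zpow_mem (D.le he1W) b
    exact (Subgroup.mul_mem_cancel_right _ (D.line_conj (D.le he1W)
      (D.line.mul_mem (D.line_conj (S.inv_mem hb') hb) hb))).mp hsq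
  obtain ⟨l, hle⟩ := hline ((E1 ^ b)⁻¹ * φ E1) (by simpa [E1, hφ E1 he1W] using hb)
  rw [map_mul, map_inv, map_zpow, inv_mul_eq_iff_eq_mul] at hle
  obtain ⟨m, wU, cU, hwU, hcU, hU⟩ := hdecomp (φ U)
  have hπU : π (φ U) = π wU * υ ^ m := by
    rw [hU, map_mul, map_mul, map_zpow, (hker cU).mpr hcU, mul_one]
  have hap : ¬ (p : ℤ) ∣ a := by
    rintro ⟨t, rfl⟩
    rw [zpow_mul, zpow_natCast, hεp, one_zpow] at hae
    have h1 := hkerW _ (hφW E0 (D.line_le he0L)) hae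
    rw [hφ E0 (D.line_le he0L)] at h1
    refine he0Z ?_
    have h2 := D.zW_aut β⁻¹ (x := ⟨autFun β e0, autFun_mem β (D.line_le he0L)⟩) h1
    have h3 : β⁻¹ ⟨autFun β e0, autFun_mem β (D.line_le he0L)⟩ = ⟨e0, D.line_le he0L⟩ := by
      rw [show (⟨autFun β e0, autFun_mem β (D.line_le he0L)⟩ : W) = β ⟨e0, D.line_le he0L⟩ from
        Subtype.ext (autFun_apply_mem β (D.line_le he0L)), MulAut.inv_apply_self]
    rwa [h3] at h2
  -- the pairing
  have hkey : (p : ℤ) ∣ m * b - a := by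
    have h1 : π (φ (U * E1 * U⁻¹ * E1⁻¹ * (E0 ^ d)⁻¹)) = 1 := hφC _ (by
      rw [map_mul, map_mul, map_mul, map_mul, map_inv, map_inv, map_inv, map_zpow, hd]
      show ε ^ d * η * η⁻¹ * (ε ^ d)⁻¹ = 1
      group)
    rw [map_mul, map_mul, map_mul, map_mul, map_inv, map_inv, map_inv, map_zpow, map_mul, map_mul,
      map_mul, map_mul, map_inv, map_inv, map_inv, map_zpow, hπU, hle, hae, mul_inv_eq_one,
      mul_inv_eq_iff_eq_mul, mul_inv_eq_iff_eq_mul] at h1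
    have h2 := hUconj m b
    have h3 : Commute (π wU) (η ^ b) := (hWη wU hwU).zpow_right b
    have h4 : π wU * υ ^ m * (η ^ b * ε ^ l) =
        (ε ^ d) ^ (m * b) * (η ^ b * ε ^ l) * (π wU * υ ^ m) := by
      calc π wU * υ ^ m * (η ^ b * ε ^ l)
          = π wU * (υ ^ m * η ^ b * (υ ^ m)⁻¹) * (υ ^ m * ε ^ l) := by group
        _ = (π wU * (ε ^ d) ^ (m * b)) * η ^ b * (υ ^ m * ε ^ l) := by rw [h2]; group
        _ = (ε ^ d) ^ (m * b) * (π wU * η ^ b) * (υ ^ m * ε ^ l) := by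
          rw [← (((hεc (π wU)).zpow_left d).zpow_left (m * b)).eq]; group
        _ = (ε ^ d) ^ (m * b) * η ^ b * (π wU * υ ^ m * ε ^ l) := by rw [h3.eq]; group
        _ = _ := by rw [← ((hεc (π wU * υ ^ m)).zpow_left l).eq]; group
    rw [h4] at h1
    have h5 := mul_right_cancel (mul_right_cancel h1)
    rw [← zpow_mul, ← zpow_mul] at h5
    have h6 := dvd_of_zpow_eq_one hεp hε1 (j := d * (m * b) - a * d)
      (by rw [zpow_sub, h5, mul_inv_cancel])
    rw [show d * (m * b) - a * d = d * (m * b - a) by ring] at h6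
    exact ((Nat.prime_iff_prime_int.mp hp).dvd_or_dvd h6).resolve_left hdp
  -- casts
  have hp3 : (3 : ZMod p) ≠ 0 := by
    intro h
    have : ((3 : ℕ) : ZMod p) = 0 := by exact_mod_cast h
    have := Nat.le_of_dvd (by norm_num) ((ZMod.natCast_eq_zero_iff _ _).mp this)
    have := D.big
    omega
  have hb2' : 2 * (b : ZMod p) = 1 := by
    have := (ZMod.intCast_zmod_eq_zero_iff_dvd _ p).mpr hb2
    push_cast at this
    linear_combination this
  have hkey' : (m : ZMod p) * b = a := by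
    have := (ZMod.intCast_zmod_eq_zero_iff_dvd _ p).mpr hkey
    push_cast at this
    linear_combination this
  have hap' : (a : ZMod p) ≠ 0 := fun h => hap ((ZMod.intCast_zmod_eq_zero_iff_dvd _ p).mp h)
  have hUp : Commute (π (U ^ p)) η := by
    rw [map_pow]
    have h1 := hUconj p 1
    rw [← zpow_mul, zpow_one, zpow_natCast, mul_one,
      show d * (p : ℤ) = (p : ℤ) * d by ring, zpow_mul, zpow_natCast, hεp, one_zpow, one_mul,
      mul_inv_eq_iff_eq_mul] at h1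
    exact h1
  obtain ⟨w1, hw1, c1, hc1, hsplit⟩ := D.split (U ^ p).2 (hcenW _ hUp)
  let W1 : S := ⟨w1, D.le hw1⟩
  have hπW1 : π W1 = π (U ^ p) := by
    rw [show U ^ p = W1 * ⟨c1, (mem_centralizerIn.mp hc1).1⟩ from Subtype.ext hsplit, map_mul,
      (hker ⟨c1, (mem_centralizerIn.mp hc1).1⟩).mpr hc1, mul_one]
  have hw1L : w1 ∈ D.line := by
    refine D.mem_line_of_disp hout0 hu0 hu0out hw1 ?_
    have := hkerW (U * W1 * U⁻¹ * W1⁻¹)
      (by simpa [U, W1] using W.mul_mem (D.conj_mem hu0 hw1) (W.inv_mem hw1)) (by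
      rw [map_mul, map_mul, map_mul, map_inv, map_inv, hπW1, map_pow,
        (Commute.self_pow υ p).eq]
      show υ ^ p * υ * υ⁻¹ * (υ ^ p)⁻¹ = 1
      group)
    simpa [U, W1] using this
  obtain ⟨i, hi⟩ := hline W1 hw1L
  rw [hπW1] at hi
  -- the `p`-th power of `w u ^ m`
  have hpowm : (wU * U ^ m) ^ p = (U ^ p) ^ m := by
    set Y := U ^ m
    have hconjW : ((Y * wU * Y⁻¹ * wU⁻¹ : S) : Ω) ∈ D.line := by
      simpa using D.disp_mem hout0 Y.2 hwU
    set uu := wU⁻¹ * (Y * wU * Y⁻¹) with huu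
    have huuL : (uu : Ω) ∈ D.line := by
      have := D.line_conj (S.inv_mem wU.2) hconjW
      simp only [huu, Subgroup.coe_mul, Subgroup.coe_inv] at this ⊢
      convert this using 1
      group
    set vv := uu⁻¹ * (Y * uu * Y⁻¹) with hvv
    have hvvZ : (vv : Ω) ∈ zW W := by
      have h1 := huuL.2 Y Y.2
      have h2 := D.central _ h1 _ (S.inv_mem uu.2)
      simp only [hvv, Subgroup.coe_mul, Subgroup.coe_inv] at h1 h2 ⊢
      convert h1 using 1
      calc (uu : Ω)⁻¹ * (Y * uu * (Y : Ω)⁻¹)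
          = (uu : Ω)⁻¹ * (Y * uu * (Y : Ω)⁻¹ * (uu : Ω)⁻¹) * uu := by group
        _ = _ := by rw [h2]; group
    set ww := uu⁻¹ * wU⁻¹ * uu * wU with hww
    have hwwZ : (ww : Ω) ∈ zW W := by
      have := D.comm_mem (W.inv_mem (D.line_le huuL)) (W.inv_mem hwU)
      simpa [hww] using this
    have hcen : ∀ z : S, (z : Ω) ∈ zW W → ∀ r : S, Commute z r := fun z hz r =>
      Subtype.ext (D.central _ hz r r.2).symm
    have hpW : ∀ z : S, (z : Ω) ∈ W → z ^ p = 1 := fun z hz => Subtype.ext (D.pow_eq hz)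
    rw [Cfsg.Lib.PGroups.BlackburnCoprime.mul_pow_of_class_three D.big (x := wU) (y := Y) (u := uu)
      (v := vv) (w := ww) (by rw [huu]; group) (by rw [hvv]; group) (by rw [hww]; group)
      (hcen _ hvvZ) (hcen _ hwwZ) (hpW _ (D.line_le huuL)) (hpW _ hvvZ.1) (hpW _ hwwZ.1),
      hpW _ hwU, one_mul]
    show (U ^ m) ^ p = (U ^ p) ^ m
    rw [← zpow_natCast (U ^ m), ← zpow_natCast U, ← zpow_mul, ← zpow_mul, mul_comm]
  by_cases hip : (p : ℤ) ∣ i
  swap
  · have h1 : π (φ (U ^ p * (E0 ^ i)⁻¹)) = 1 := hφC _ (by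
      rw [map_mul, map_inv, map_zpow, hi, mul_inv_cancel])
    rw [map_mul, map_inv, map_zpow, map_mul, map_inv, map_zpow, map_pow, map_pow, hπU,
      mul_inv_eq_one, hae] at h1
    have h2 := congrArg π hpowm
    rw [map_pow, map_mul, map_zpow, map_zpow, hi] at h2
    rw [h2, ← zpow_mul, ← zpow_mul] at h1
    have h3 := dvd_of_zpow_eq_one hεp hε1 (j := i * m - a * i)
      (by rw [zpow_sub, h1, mul_inv_cancel])
    rw [show i * m - a * i = i * (m - a) by ring] at h3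
    have h4 := (ZMod.intCast_zmod_eq_zero_iff_dvd _ p).mpr
      (((Nat.prime_iff_prime_int.mp hp).dvd_or_dvd h3).resolve_left hip)
    push_cast at h4
    have hb1 : (b : ZMod p) = 1 := mul_left_cancel₀ hap' (by linear_combination hkey' - (b : ZMod p) * h4)
    rw [hb1] at hb2'
    exact one_ne_zero (show (1 : ZMod p) = 0 by linear_combination hb2')
  -- now the power lies in the centralizer
  have hUpC : ((U ^ p : S) : Ω) ∈ centralizerIn S W := by
    refine (hker _).mp ?_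
    obtain ⟨t, rfl⟩ := hip
    rw [hi, zpow_mul, zpow_natCast, hεp, one_zpow]
  obtain ⟨γ0, hγ0, hgen⟩ := D.cyclic
  let γ : S := ⟨γ0, (mem_centralizerIn.mp hγ0).1⟩
  have hCgen : ∀ x : S, (x : Ω) ∈ centralizerIn S W → ∃ j : ℤ, x = γ ^ j := by
    intro x hx
    obtain ⟨j, hj⟩ := hgen.le hx
    exact ⟨j, Subtype.ext (by simpa [γ] using hj.symm)⟩
  obtain ⟨r0, hr0⟩ := IsPGroup.iff_orderOf.mp D.pgroup γ
  set ζ := E1 * E0 * E1⁻¹ * E0⁻¹ with hζ
  have hζZ : (ζ : Ω) ∈ zW W := by simpa [hζ, E0, E1] using D.comm_mem he1W (D.line_le he0L)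
  have hζ1 : ζ ≠ 1 := by
    intro h
    refine he0Z ⟨D.line_le he0L, Subgroup.mem_centralizer_iff.mpr fun w hw => ?_⟩
    obtain ⟨s, hs⟩ := D.top_gen hout0 he1W he1L hw
    obtain ⟨t, ht⟩ := D.line_gen hout0 he0L he0Z hs
    have hc1' : Commute e1 e0 := by
      have := congrArg Subtype.val h
      simp only [hζ, Subgroup.coe_mul, Subgroup.coe_inv, Subgroup.coe_one, E0, E1] at this
      rwa [mul_inv_eq_one, mul_inv_eq_iff_eq_mul] at this
    have hw' : w = e1 ^ s * (e0 ^ t * ((e0 ^ t)⁻¹ * ((e1 ^ s)⁻¹ * w))) := by group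
    rw [hw']
    exact (((hc1'.symm).zpow_right s).mul_right (((Commute.refl e0).zpow_right t).mul_right
      (D.central _ ht e0 (D.le (D.line_le he0L))))).symm.eq
  have hζp : ζ ^ p = 1 := Subtype.ext (D.pow_eq hζZ.1)
  obtain ⟨j, hj⟩ := hCgen _ hUpC
  by_cases hjp : (p : ℤ) ∣ j
  swap
  · -- the power generates the centralizer
    have hgenU : ∀ x : S, (x : Ω) ∈ centralizerIn S W → ∃ n : ℤ, x = (U ^ p) ^ n := by
      intro x hx
      obtain ⟨k, rfl⟩ := hCgen x hx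
      obtain ⟨s, t, hst⟩ := (((Nat.prime_iff_prime_int.mp hp).coprime_iff_not_dvd.mpr hjp).pow_left
        (m := r0))
      refine ⟨t * k, ?_⟩
      rw [hj, ← zpow_mul]
      have e : j * (t * k) = k + (p : ℤ) ^ r0 * (-(s * k)) := by linear_combination k * hst
      rw [e, zpow_add, zpow_mul, ← Nat.cast_pow, zpow_natCast, ← hr0, pow_orderOf_eq_one, one_zpow,
        mul_one]
    obtain ⟨n, hn⟩ := hgenU _ hcU
    obtain ⟨q, hq⟩ := hgenU _ (hZC hζZ)
    have hcomm : Commute (wU * U ^ m) cU := by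
      refine Commute.mul_left (Subtype.ext (D.comm_centralizer hcU hwU).symm) ?_
      rw [hn]
      exact (Commute.self_pow U p).zpow_zpow m n
    have h1 : φ ζ = ζ ^ m := by
      conv_lhs => rw [hq]
      rw [map_zpow, map_pow, hU, hcomm.mul_pow, hpowm, hn, ← zpow_natCast ((U ^ p) ^ n), ← zpow_mul,
        ← zpow_add, ← zpow_mul]
      rw [show (m + n * (p : ℤ)) * q = q * m + (p : ℤ) * (q * n) by ring, zpow_add, zpow_mul,
        ← hq, show (p : ℤ) * (q * n) = q * (p : ℤ) * n by ring, zpow_mul, zpow_mul, ← hq,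
        zpow_natCast, hζp, one_zpow, mul_one]
    have h2 : φ ζ = ζ ^ (b * a) := by
      have hl : ((((E1 ^ b)⁻¹ * φ E1 : S)) : Ω) ∈ D.line := by simpa [E1, hφ E1 he1W] using hb
      have hz : ∀ z : S, (z : Ω) ∈ zW W → ∀ r : S, Commute z r := fun z hz r =>
        Subtype.ext (D.central _ hz r r.2).symm
      have hpow := comm_zpow (hz _ hζZ) (x := E1) (y := E0) (by rw [hζ]; group) b a
      set l' := (E1 ^ b)⁻¹ * φ E1 with hl'
      set z' := (E0 ^ a)⁻¹ * φ E0 with hz'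
      have hz'Z : (z' : Ω) ∈ zW W := hkerW _ (by
        simpa [hz'] using W.mul_mem (W.inv_mem (W.zpow_mem (D.line_le he0L) a)) (hφW E0 (D.line_le he0L)))
        (by rw [hz', map_mul, map_inv, map_zpow, hae, inv_mul_cancel])
      obtain ⟨t, ht⟩ := D.line_gen hout0 he0L he0Z hl
      have hlc : Commute l' (E0 ^ a) := by
        have e : l' = E0 ^ t * ((E0 ^ t)⁻¹ * l') := by group
        rw [e]
        exact (Commute.zpow_zpow_self E0 t a).mul_left (hz _ (by simpa [E0] using ht) _)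
      rw [hζ, map_mul, map_mul, map_mul, map_inv, map_inv, show φ E1 = E1 ^ b * l' by simp [hl'],
        show φ E0 = E0 ^ a * z' by simp [hz']]
      calc E1 ^ b * l' * (E0 ^ a * z') * (E1 ^ b * l')⁻¹ * (E0 ^ a * z')⁻¹
          = E1 ^ b * l' * (E0 ^ a * z') * l'⁻¹ * (E1 ^ b)⁻¹ * z'⁻¹ * (E0 ^ a)⁻¹ := by group
        _ = E1 ^ b * (l' * E0 ^ a) * (l'⁻¹ * z') * (E1 ^ b)⁻¹ * z'⁻¹ * (E0 ^ a)⁻¹ := by
          rw [← ((hz _ hz'Z) l'⁻¹).eq]; group
        _ = E1 ^ b * E0 ^ a * (z' * (E1 ^ b)⁻¹) * z'⁻¹ * (E0 ^ a)⁻¹ := by rw [hlc.eq]; group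
        _ = (E1 ^ b * E0 ^ a * (E1 ^ b)⁻¹) * (E0 ^ a)⁻¹ := by rw [((hz _ hz'Z) _).eq]; group
        _ = _ := by rw [hpow, mul_inv_cancel_right]
    have h3 := dvd_of_zpow_eq_one hζp hζ1 (j := b * a - m)
      (by rw [zpow_sub, ← h1, ← h2, mul_inv_cancel])
    have h4 := (ZMod.intCast_zmod_eq_zero_iff_dvd _ p).mpr h3
    push_cast at h4
    have hb1 : (b : ZMod p) * b = 1 :=
      mul_left_cancel₀ hap' (by linear_combination hkey' + (b : ZMod p) * h4)
    exact hp3 (by linear_combination (2 * (b : ZMod p) + 1) * hb2' - 4 * hb1)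
  -- an element of order `p` outside
  obtain ⟨j', rfl⟩ := hjp
  obtain ⟨r, hr⟩ := hCgen (U * γ * U⁻¹) (by
    have := hCn.conj_mem γ hγ0 U
    exact this)
  have hr0pos : r0 ≠ 0 := by
    intro h
    rw [h, pow_zero, orderOf_eq_one_iff] at hr0
    obtain ⟨t, ht⟩ := hCgen _ (hZC hζZ)
    exact hζ1 (by rw [ht, hr0, one_zpow])
  have hrp : (p : ℤ) ∣ r ^ p - 1 := by
    have h2 := (mul_pow_of_conj_zpow hr p).2
    rw [hj] at h2
    have h3 : γ ^ (r ^ p - 1) = 1 := by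
      rw [zpow_sub, zpow_one, ← h2]
      group
    refine dvd_trans ?_ (orderOf_dvd_iff_zpow_eq_one.mpr h3)
    rw [hr0]; push_cast; exact dvd_pow_self _ hr0pos
  have hr1 : (p : ℤ) ∣ r - 1 := by
    rw [← ZMod.intCast_zmod_eq_zero_iff_dvd] at hrp ⊢
    push_cast at hrp ⊢
    rwa [ZMod.pow_card] at hrp
  obtain ⟨bb, hbb⟩ := hr1
  have hg := odd_sq_dvd_geom_sum₂_sub (a := (1 : ℤ)) bb (hp.odd_of_ne_two D.hp2)
  simp only [one_pow, mul_one] at hg
  rw [show (1 : ℤ) + p * bb = r by linarith] at hg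
  obtain ⟨e, he⟩ := hg
  have hcop : IsCoprime (1 + (p : ℤ) * e) ((p : ℤ) ^ r0) :=
    IsCoprime.pow_right (show IsCoprime (1 + (p : ℤ) * e) (p : ℤ) from ⟨1, -e, by ring⟩)
  obtain ⟨s, t, hst⟩ := hcop
  set x := -(j' * s)
  have hrx : U * γ ^ x * U⁻¹ = (γ ^ x) ^ r := by
    rw [← conj_zpow, hr, ← zpow_mul, ← zpow_mul, mul_comm]
  have hord : (γ ^ x * U) ^ p = 1 := by
    rw [(mul_pow_of_conj_zpow hrx p).1, hj, ← zpow_mul, ← zpow_add,
      show x * ∑ k ∈ Finset.range p, r ^ k + (p : ℤ) * j' = (p : ℤ) ^ r0 * ((p : ℤ) * j' * t) by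
        linear_combination x * he - (p : ℤ) * j' * hst,
      zpow_mul, ← Nat.cast_pow, zpow_natCast, ← hr0, pow_orderOf_eq_one, one_zpow]
  have hxW : ((γ ^ x * U : S) : Ω) ∈ W :=
    D.mem_of_pow (γ ^ x * U).2 (congrArg Subtype.val hord)
  refine hu0out (hcenW U ?_)
  have h1 := hWη _ hxW
  rwa [map_mul, map_zpow, (hker γ).mpr hγ0, one_zpow, one_mul] at h1

end Setup

end Cfsg.Lib.Fusion.RankTwo
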